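import Cfsg.Agent.TwoFusion.DihedralSylow
import Cfsg.Agent.Invol.IndexTwo

/-!
Conjugacy of four-subgroups and the criterion for a single class of involutions.
-/

set_option autoImplicit false

namespace Cfsg.Agent.TwoFusion

open Cfsg.Agent.TwoGroups

variable {G : Type*} [Group G] [Finite G] {S : Sylow 2 G} {m : ℕ}

omit [Finite G] in
theorem IsFour.isKleinFour {X : Subgroup G} (hX : IsFour X) : IsKleinFour X := by
  haveI : Finite X := Nat.finite_of_card_ne_zero (by rw [hX.1]; norm_num)
  haveI : Nontrivial X := Finite.one_lt_card_iff_nontrivial.1 (by rw [hX.1]; norm_num)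
  exact ⟨hX.1, (Monoid.exponent_eq_prime_iff Nat.prime_two).2 fun u hu =>
    orderOf_eq_prime (by rw [pow_two]; exact Subtype.ext (hX.2 u u.2)) hu⟩

omit [Finite G] in
theorem isFour_of_isKleinFour {X : Subgroup G} (hX : IsKleinFour X) : IsFour X :=
  ⟨hX.card_four, fun x hx => congrArg Subtype.val (IsKleinFour.mul_self (⟨x, hx⟩ : X))⟩

theorem exists_conj_four (S : Sylow 2 G) {U : Subgroup G} (hU : IsFour U) :
    ∃ g : G, U.map (MulAut.conj g).toMonoidHom ≤ (S : Subgroup G) ∧
      IsFour (U.map (MulAut.conj g).toMonoidHom) := by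
  obtain ⟨g, hg⟩ := exists_conj_le_sylow S (R := U) (IsPGroup.of_card (n := 2) (by rw [hU.1]; norm_num))
  exact ⟨g, by rintro _ ⟨x, hx, rfl⟩; exact hg x hx, hU.map _ (MulAut.conj g).injective⟩

omit [Finite G] in
theorem map_conj_symm {U V : Subgroup G} {g : G} (h : U.map (MulAut.conj g).toMonoidHom = V) :
    V.map (MulAut.conj g⁻¹).toMonoidHom = U := by
  rw [← h, map_conj_map_conj, inv_mul_cancel]
  ext x
  simp

theorem four_conj_of_card_four (h4 : Nat.card (S : Subgroup G) = 4) {U V : Subgroup G}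
    (hU : IsFour U) (hV : IsFour V) : ∃ x : G, U.map (MulAut.conj x).toMonoidHom = V := by
  obtain ⟨g, hg, hg'⟩ := exists_conj_four S hU
  obtain ⟨k, hk, hk'⟩ := exists_conj_four S hV
  have e1 := Subgroup.eq_of_le_of_card_ge hg (by rw [hg'.1, h4])
  have e2 := Subgroup.eq_of_le_of_card_ge hk (by rw [hk'.1, h4])
  refine ⟨k⁻¹ * g, ?_⟩
  rw [← map_conj_map_conj, e1, ← e2, map_conj_symm rfl]

namespace Dih

open Cfsg.Agent.TwoFusion.MC

variable {n : ℕ} {a b : (S : Subgroup G)} (h : DData n a b)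
include h

theorem two_classes : ∃ U₁ U₂ : Subgroup G, IsFour U₁ ∧ IsFour U₂ ∧
    (¬ ∃ x : G, U₁.map (MulAut.conj x).toMonoidHom = U₂) ∧
    ∀ V : Subgroup G, IsFour V → (∃ x : G, V.map (MulAut.conj x).toMonoidHom = U₁) ∨
      (∃ x : G, V.map (MulAut.conj x).toMonoidHom = U₂) := by
  obtain ⟨X, hXS, hX, hbX, -, -⟩ := exists_fourG h.toMaxClassData h.notMem h.b_sq
  obtain ⟨Y, hYS, hY, habY, -, -⟩ := exists_fourG h.toMaxClassData (h.zpow_mul_notMem 1)
    (sq_out h (h.zpow_mul_notMem 1))
  refine ⟨X, Y, hX, hY, four_not_conj h hX hXS hY hYS hbX habY, fun V hV => ?_⟩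
  obtain ⟨g, hg, hg'⟩ := exists_conj_four S hV
  obtain ⟨i, hi⟩ := four_gen h hg' hg
  by_cases h2 : 2 ∣ i
  · obtain ⟨k, hk⟩ := four_conj h hg' hg hX hXS (i := i) (j := 0) (by simpa using h2) hi
      (by simpa using hbX)
    exact Or.inl ⟨k * g, by rw [← map_conj_map_conj]; exact hk⟩
  · obtain ⟨k, hk⟩ := four_conj h hg' hg hY hYS (i := i) (j := 1) (by omega) hi habY
    exact Or.inr ⟨k * g, by rw [← map_conj_map_conj]; exact hk⟩

theorem involution_cases {u : (S : Subgroup G)} (hu : u * u = 1) (hu1 : u ≠ 1) :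
    (u : G) = zG n a ∨ u ∉ Subgroup.zpowers a := by
  by_cases hA : u ∈ Subgroup.zpowers a
  · exact Or.inl (congrArg Subtype.val ((eq_invol h.toMaxClassData hA hu).resolve_left hu1))
  · exact Or.inr hA

theorem six_of_all_conj (hA : ∀ x y : G, orderOf x = 2 → orderOf y = 2 → IsConj x y)
    {X : Subgroup G} (hX : IsFour X) (hXS : X ≤ (S : Subgroup G)) :
    (Subgroup.centralizer (X : Set G)).relIndex (Subgroup.normalizer (X : Set G)) = 6 := by
  refine (four_r h.toMaxClassData hX hXS).resolve_left fun e2 => ?_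
  obtain ⟨-, ⟨t, htX, htA⟩, -, -⟩ := four_le h.toMaxClassData hX hXS
  have ht1 : (t : G) ≠ 1 := fun e => htA (by
    rw [show t = 1 from Subtype.ext e]; exact Subgroup.one_mem _)
  refine four_not_fused h.toMaxClassData hX hXS e2 htX ht1 (fun e => htA ?_)
    (hA _ _ (orderOf_eq_prime (by rw [pow_two]; exact hX.2 _ htX) ht1) (orderOf_zG h.toMaxClassData))
  rw [show t = a ^ (2 ^ (n - 1)) from Subtype.ext e]
  exact Subgroup.npow_mem_zpowers a _

theorem all_conj_of_six (hB : ∀ X : Subgroup G, IsFour X → X ≤ (S : Subgroup G) →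
      (Subgroup.centralizer (X : Set G)).relIndex (Subgroup.normalizer (X : Set G)) = 6) :
    ∀ x y : G, orderOf x = 2 → orderOf y = 2 → IsConj x y := by
  have key : ∀ x : G, orderOf x = 2 → IsConj (zG n a) x := by
    intro x hx
    obtain ⟨u, hu, hux⟩ := exists_conj_mem S (t := x) (j := 1) (by simpa using hx)
    have huu : u * u = 1 := by
      rw [← pow_two]; exact orderOf_dvd_iff_pow_eq_one.1 (dvd_of_eq (by simpa using hu))
    have hu1 : u ≠ 1 := fun e => by rw [e, orderOf_one] at hu; norm_num at hu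
    rcases involution_cases h huu hu1 with e | hA
    · exact e ▸ hux
    · obtain ⟨X, hXS, hX, huX, hu1', -⟩ := exists_fourG h.toMaxClassData hA huu
      exact (four_fused_of_six h.toMaxClassData hX hXS (hB X hX hXS) huX hu1').trans hux
  exact fun x y hx hy => (key x hx).symm.trans (key y hy)

theorem all_conj_of_no_index_two (hno : ∀ H : Subgroup G, H.index ≠ 2) :
    ∀ x y : G, orderOf x = 2 → orderOf y = 2 → IsConj x y := by
  have key : ∀ x : G, orderOf x = 2 → IsConj (zG n a) x := by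
    intro x hx
    obtain ⟨g, hg⟩ := Invol.exists_conj_mem_of_no_index_two hno S
      ((Subgroup.zpowers a).map (S : Subgroup G).subtype) (by
        rw [Subgroup.card_map_of_injective (S : Subgroup G).subtype_injective, Nat.card_zpowers,
          h.order, h.card, pow_succ']) hx
    obtain ⟨u, hu, hux⟩ := hg
    have ho : orderOf u = 2 := by
      rw [← Subgroup.orderOf_coe, show (u : G) = g⁻¹ * x * g from hux]
      have h2 : orderOf ((MulAut.conj g⁻¹).toMonoidHom x) = 2 :=
        (orderOf_injective _ (MulAut.conj g⁻¹).injective x).trans hx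
      simpa using h2
    rcases eq_invol h.toMaxClassData hu (by
      rw [← pow_two]; exact orderOf_dvd_iff_pow_eq_one.1 (dvd_of_eq ho)) with e | e
    · rw [e, orderOf_one] at ho; omega
    · exact isConj_iff.2 ⟨g, by
        rw [show zG n a = g⁻¹ * x * g from (congrArg Subtype.val e).symm.trans hux]; group⟩
  exact fun x y hx hy => (key x hx).symm.trans (key y hy)

end Dih

/-! ### The Sylow subgroup is a four-group -/

theorem relIndex_dvd_three (h4 : IsFour (S : Subgroup G)) :
    (Subgroup.centralizer ((S : Subgroup G) : Set G)).relIndex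
      (Subgroup.normalizer ((S : Subgroup G) : Set G)) ∣ 3 := by
  classical
  haveI := h4.isKleinFour
  set r := (Subgroup.centralizer ((S : Subgroup G) : Set G)).relIndex
      (Subgroup.normalizer ((S : Subgroup G) : Set G))
  have h24 : r ∣ 24 := by
    have h1 : r = Nat.card (S : Subgroup G).normalizerMonoidHom.range := by
      show Subgroup.relIndex _ _ = _
      rw [Subgroup.relIndex, ← Subgroup.normalizerMonoidHom_ker, Subgroup.index_ker]
    have hf : Function.Injective (MulAut.toPerm (S : Subgroup G)) := fun φ ψ e =>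
      MulEquiv.ext fun x => Equiv.ext_iff.1 e x
    rw [h1, ← Subgroup.card_map_of_injective hf]
    refine (Subgroup.card_subgroup_dvd_card _).trans ?_
    rw [Nat.card_perm, h4.1]
    decide
  have hodd : ¬ 2 ∣ r := fun hd => S.not_dvd_index (hd.trans (by
    refine (Subgroup.relIndex_dvd_of_le_left _ h4.le_centralizer).trans ?_
    rw [← Subgroup.relIndex_mul_index (Subgroup.le_normalizer (H := (S : Subgroup G)))]
    exact dvd_mul_right _ _))
  have : r ≤ 24 := Nat.le_of_dvd (by norm_num) h24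
  interval_cases r <;> simp_all

theorem all_conj_of_relIndex_ne_one (h4 : IsFour (S : Subgroup G))
    (h3 : (Subgroup.centralizer ((S : Subgroup G) : Set G)).relIndex
      (Subgroup.normalizer ((S : Subgroup G) : Set G)) ≠ 1) :
    ∀ x y : G, orderOf x = 2 → orderOf y = 2 → IsConj x y := by
  haveI := h4.isKleinFour
  set C := Subgroup.centralizer ((S : Subgroup G) : Set G)
  set N := Subgroup.normalizer ((S : Subgroup G) : Set G)
  haveI : (C.subgroupOf N).Normal := centralizer_normal_in_normalizer _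
  have hr : (C.subgroupOf N).index = 3 := by
    rcases (Nat.dvd_prime Nat.prime_three).1 (relIndex_dvd_three h4) with e | e
    · exact absurd e h3
    · exact e
  obtain ⟨g, hg⟩ : ∃ g : N, g ∉ C.subgroupOf N := by
    by_contra hc
    push Not at hc
    rw [(Subgroup.eq_top_iff' _).2 hc, Subgroup.index_top] at hr
    omega
  have h3' : orderOf (QuotientGroup.mk' (C.subgroupOf N) g) = 3 := by
    rcases (Nat.dvd_prime Nat.prime_three).1
      (show orderOf (QuotientGroup.mk' (C.subgroupOf N) g) ∣ 3 from by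
        rw [← hr, Subgroup.index_eq_card]; exact orderOf_dvd_natCard _) with e | e
    · exact absurd ((QuotientGroup.eq_one_iff g).1 (orderOf_eq_one_iff.1 e)) hg
    · exact e
  have hsq : g ^ 2 ∉ C.subgroupOf N := fun hm => by
    have h1 : QuotientGroup.mk' (C.subgroupOf N) g ^ 2 = 1 := by
      rw [← map_pow]; exact (QuotientGroup.eq_one_iff _).2 hm
    have := orderOf_dvd_of_pow_eq_one h1
    rw [h3'] at this
    norm_num at this
  -- an element outside the centraliser moves every involution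
  have move : ∀ k : N, k ∉ C.subgroupOf N → k ^ 2 ∉ C.subgroupOf N →
      ∀ x ∈ (S : Subgroup G), x ≠ 1 → (k : G) * x * (k : G)⁻¹ ≠ x := by
    intro k _ hk2 x hx hx1 hfix
    refine hk2 (Subgroup.mem_centralizer_iff.2 fun y hy => ?_)
    have hky : ∀ y ∈ (S : Subgroup G), (k : G) * y * (k : G)⁻¹ ∈ (S : Subgroup G) :=
      fun y hy => (Subgroup.mem_normalizer_iff.1 k.2 y).1 hy
    suffices hh : ((k : G) * (k : G)) * y * ((k : G) * (k : G))⁻¹ = y by
      show y * ((k ^ 2 : N) : G) = ((k ^ 2 : N) : G) * y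
      rw [Subgroup.coe_pow, pow_two]
      exact (mul_inv_eq_iff_eq_mul.1 hh).symm
    by_cases hy1 : y = 1
    · rw [hy1]; group
    by_cases hyx : y = x
    · rw [hyx]
      calc _ = (k : G) * ((k : G) * x * (k : G)⁻¹) * (k : G)⁻¹ := by group
        _ = x := by rw [hfix, hfix]
    have hky1 : (k : G) * y * (k : G)⁻¹ ≠ 1 := fun e => hy1 (conj_eq_one_iff.1 e)
    have hkyx : (k : G) * y * (k : G)⁻¹ ≠ x := fun e => hyx (by
      have := e.trans hfix.symm
      exact mul_left_cancel (mul_right_cancel this))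
    by_cases hkyy : (k : G) * y * (k : G)⁻¹ = y
    · calc _ = (k : G) * ((k : G) * y * (k : G)⁻¹) * (k : G)⁻¹ := by group
        _ = y := by rw [hkyy, hkyy]
    have h5 : (k : G) * y * (k : G)⁻¹ = x * y := congrArg Subtype.val
      (IsKleinFour.eq_mul_of_ne_all (x := (⟨x, hx⟩ : (S : Subgroup G))) (y := ⟨y, hy⟩)
        (z := ⟨_, hky y hy⟩) (fun e => hx1 (congrArg Subtype.val e))
        (fun e => hy1 (congrArg Subtype.val e)) (fun e => hyx (congrArg Subtype.val e).symm)
        (fun e => hky1 (congrArg Subtype.val e)) (fun e => hkyx (congrArg Subtype.val e))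
        (fun e => hkyy (congrArg Subtype.val e)))
    calc _ = (k : G) * ((k : G) * y * (k : G)⁻¹) * (k : G)⁻¹ := by group
      _ = ((k : G) * x * (k : G)⁻¹) * ((k : G) * y * (k : G)⁻¹) := by
        conv_lhs => rw [h5]
        group
      _ = x * (x * y) := by rw [hfix, h5]
      _ = y := by rw [← mul_assoc, h4.2 x hx, one_mul]
  have hg4 : (g ^ 2) ^ 2 ∉ C.subgroupOf N := fun hm => hg (by
    have h1 : QuotientGroup.mk' (C.subgroupOf N) g ^ 4 = 1 := by
      rw [← map_pow]; exact (QuotientGroup.eq_one_iff _).2 (by rwa [← pow_mul] at hm)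
    have := orderOf_dvd_of_pow_eq_one h1
    rw [h3'] at this
    norm_num at this)
  have key : ∀ x ∈ (S : Subgroup G), x ≠ 1 → ∀ y ∈ (S : Subgroup G), y ≠ 1 → IsConj x y := by
    intro x hx hx1 y hy hy1
    have m1 := (Subgroup.mem_normalizer_iff.1 g.2 x).1 hx
    have m2 := (Subgroup.mem_normalizer_iff.1 (g ^ 2).2 x).1 hx
    have n1 := move g hg hsq x hx hx1
    have n2 := move (g ^ 2) hsq hg4 x hx hx1
    have e1 : (g : G) * x * (g : G)⁻¹ ≠ 1 := fun e => hx1 (conj_eq_one_iff.1 e)
    have e2 : ((g ^ 2 : N) : G) * x * ((g ^ 2 : N) : G)⁻¹ ≠ 1 := fun e => hx1 (conj_eq_one_iff.1 e)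
    have n12 : ((g ^ 2 : N) : G) * x * ((g ^ 2 : N) : G)⁻¹ ≠ (g : G) * x * (g : G)⁻¹ := by
      have := move g hg hsq _ m1 e1
      rwa [show (g : G) * ((g : G) * x * (g : G)⁻¹) * (g : G)⁻¹ =
        ((g ^ 2 : N) : G) * x * ((g ^ 2 : N) : G)⁻¹ by rw [Subgroup.coe_pow, pow_two]; group] at this
    by_cases h1 : y = x
    · rw [h1]
    by_cases h2 : y = (g : G) * x * (g : G)⁻¹
    · exact isConj_iff.2 ⟨g, h2.symm⟩
    refine isConj_iff.2 ⟨((g ^ 2 : N) : G), ?_⟩
    exact congrArg Subtype.val ((IsKleinFour.eq_mul_of_ne_all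
      (x := (⟨x, hx⟩ : (S : Subgroup G))) (y := ⟨_, m1⟩) (z := ⟨_, m2⟩)
      (fun e => hx1 (congrArg Subtype.val e)) (fun e => e1 (congrArg Subtype.val e))
      (fun e => n1 (congrArg Subtype.val e).symm) (fun e => e2 (congrArg Subtype.val e))
      (fun e => n2 (congrArg Subtype.val e)) (fun e => n12 (congrArg Subtype.val e))).trans
      (IsKleinFour.eq_mul_of_ne_all
      (x := (⟨x, hx⟩ : (S : Subgroup G))) (y := ⟨_, m1⟩) (z := ⟨y, hy⟩)
      (fun e => hx1 (congrArg Subtype.val e)) (fun e => e1 (congrArg Subtype.val e))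
      (fun e => n1 (congrArg Subtype.val e).symm) (fun e => hy1 (congrArg Subtype.val e))
      (fun e => h1 (congrArg Subtype.val e)) (fun e => h2 (congrArg Subtype.val e))).symm)
  intro x y hx hy
  obtain ⟨u, hu, hux⟩ := exists_conj_mem S (t := x) (j := 1) (by simpa using hx)
  obtain ⟨v, hv, hvy⟩ := exists_conj_mem S (t := y) (j := 1) (by simpa using hy)
  have hne : ∀ w : (S : Subgroup G), orderOf w = 2 ^ 1 → (w : G) ≠ 1 := fun w hw e => by
    rw [show w = 1 from Subtype.ext e, orderOf_one] at hw; norm_num at hw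
  exact hux.symm.trans ((key u u.2 (hne u hu) v v.2 (hne v hv)).trans hvy)

theorem relIndex_eq_three_of_all_conj (h4 : IsFour (S : Subgroup G))
    (hA : ∀ x y : G, orderOf x = 2 → orderOf y = 2 → IsConj x y) :
    (Subgroup.centralizer ((S : Subgroup G) : Set G)).relIndex
      (Subgroup.normalizer ((S : Subgroup G) : Set G)) = 3 := by
  refine ((Nat.dvd_prime Nat.prime_three).1 (relIndex_dvd_three h4)).resolve_left fun e1 => ?_
  haveI := h4.isKleinFour
  haveI : IsMulCommutative (S : Subgroup G) :=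
    ⟨⟨fun x y => Subtype.ext (h4.comm x.2 y.2)⟩⟩
  obtain ⟨x, hx, y, hy, hx1, hy1, hxy⟩ : ∃ x ∈ (S : Subgroup G), ∃ y ∈ (S : Subgroup G),
      x ≠ 1 ∧ y ≠ 1 ∧ x ≠ y := by
    classical
    haveI := Fintype.ofFinite (S : Subgroup G)
    obtain ⟨u, hu⟩ : ∃ u : (S : Subgroup G), u ≠ 1 := Fintype.exists_ne_of_one_lt_card (by
      rw [← Nat.card_eq_fintype_card, h4.1]; norm_num) 1
    by_contra hc
    push Not at hc
    have hsub : (Finset.univ : Finset (S : Subgroup G)) ⊆ {1, u} := fun v _ => by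
      by_cases hv : v = 1
      · simp [hv]
      · have := hc u u.2 v v.2 (fun e => hu (Subtype.ext e)) (fun e => hv (Subtype.ext e))
        simp [Subtype.ext this]
    have h1 := Finset.card_le_card hsub
    rw [Finset.card_univ, ← Nat.card_eq_fintype_card, h4.1] at h1
    exact absurd (h1.trans Finset.card_le_two) (by norm_num)
  obtain ⟨g, hg⟩ := isConj_iff.1 (hA x y (orderOf_eq_prime (by rw [pow_two]; exact h4.2 x hx) hx1)
    (orderOf_eq_prime (by rw [pow_two]; exact h4.2 y hy) hy1))
  obtain ⟨k, hk, he⟩ := Sylow.conj_eq_normalizer_conj_of_mem S x g⁻¹ hx (by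
    rw [inv_inv]; rw [hg]; exact hy)
  have hkC : k ∈ Subgroup.centralizer ((S : Subgroup G) : Set G) := Subgroup.relIndex_eq_one.1 e1 hk
  rw [inv_inv, hg] at he
  refine hxy (he.trans ?_).symm
  rw [mul_assoc, Subgroup.mem_centralizer_iff.1 hkC x hx, inv_mul_cancel_left]

theorem all_conj_of_no_index_two_four (h4 : IsFour (S : Subgroup G))
    (hno : ∀ H : Subgroup G, H.index ≠ 2) :
    ∀ x y : G, orderOf x = 2 → orderOf y = 2 → IsConj x y := by
  intro x y hx hy
  obtain ⟨u, hu, hux⟩ := exists_conj_mem S (t := x) (j := 1) (by simpa using hx)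
  have hu' : orderOf (u : G) = 2 := by rw [Subgroup.orderOf_coe]; simpa using hu
  obtain ⟨g, hg⟩ := Invol.exists_conj_mem_of_no_index_two hno S (Subgroup.zpowers (u : G))
    (by rw [Nat.card_zpowers, hu', h4.1]) hy
  have : g⁻¹ * y * g = (u : G) := by
    obtain ⟨i, hi⟩ := Subgroup.mem_zpowers_iff.1 hg
    rw [← zpow_mod_orderOf, hu'] at hi
    rcases Int.emod_two_eq_zero_or_one i with e | e <;>
      rw [show ((2 : ℕ) : ℤ) = 2 from rfl, e] at hi
    · exfalso
      rw [zpow_zero] at hi
      have e' : y = 1 := by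
        calc y = g * (g⁻¹ * y * g) * g⁻¹ := by group
          _ = 1 := by rw [← hi]; group
      rw [e', orderOf_one] at hy
      omega
    · rw [← hi, zpow_one]
  refine hux.symm.trans (isConj_iff.2 ⟨g, ?_⟩)
  rw [← this]; group

end Cfsg.Agent.TwoFusion
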