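import Cfsg.Prelude.Def_Involutions
import Cfsg.Agent.TwoFusion.Basic
import Mathlib.GroupTheory.Perm.Cycle.Type

/-!
First properties of strongly embedded subgroups: products of involutions on either side have odd
order, and the map `v ↦ v s v` between involutions (Bender's bijection).
-/

set_option autoImplicit false

namespace Cfsg.Agent.TwoFusion

variable {G : Type*} [Group G]

theorem involution_inv {t : G} (ht : orderOf t = 2) : t⁻¹ = t := by
  rw [inv_eq_iff_mul_eq_one, ← pow_two, ← ht, pow_orderOf_eq_one]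

theorem involution_mul_self {t : G} (ht : orderOf t = 2) : t * t = 1 := by
  rw [← pow_two, ← ht, pow_orderOf_eq_one]

theorem involution_ne_one {t : G} (ht : orderOf t = 2) : t ≠ 1 := by
  rintro rfl
  simp at ht

theorem orderOf_conj' (g x : G) : orderOf (g * x * g⁻¹) = orderOf x := by
  have := orderOf_injective (MulAut.conj g).toMonoidHom (MulAut.conj g).injective x
  simpa using this

theorem involution_swap {t : G} (ht : orderOf t = 2) (r : G) (h : t * r * t = r⁻¹) (k : ℕ) :
    t * r ^ k * t = (r ^ k)⁻¹ := by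
  have h2 : t * r * t⁻¹ = r⁻¹ := by rw [involution_inv ht]; exact h
  calc t * r ^ k * t = t * r ^ k * t⁻¹ := by rw [involution_inv ht]
    _ = (t * r * t⁻¹) ^ k := (conj_pow).symm
    _ = (r ^ k)⁻¹ := by rw [h2, inv_pow]

/-- Involutions with product of odd order are conjugate by an involution of the dihedral group. -/
theorem exists_involution_conj_of_odd {s i : G} (hs : orderOf s = 2) (hi : orderOf i = 2)
    (hodd : Odd (orderOf (s * i))) :
    ∃ v : G, orderOf v = 2 ∧ v * s * v⁻¹ = i ∧ v ∈ Subgroup.closure ({s, i} : Set G) := by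
  obtain ⟨k, hk⟩ := hodd
  set r := s * i with hr
  have hss := involution_mul_self hs
  have hinv : r⁻¹ = i * s := by rw [hr, mul_inv_rev, involution_inv hs, involution_inv hi]
  have hsr : s * r * s = r⁻¹ := by rw [hinv, hr, ← mul_assoc, hss, one_mul]
  have h1 : s * r ^ k * s = (r ^ k)⁻¹ := involution_swap hs r hsr k
  have hk1 : r ^ (2 * k) = r⁻¹ := by
    apply eq_inv_of_mul_eq_one_left
    rw [← pow_succ, ← hk, pow_orderOf_eq_one]
  set v := r ^ k * s with hv
  have hvv : v * v = 1 := by
    rw [hv]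
    calc r ^ k * s * (r ^ k * s) = r ^ k * (s * r ^ k * s) := by group
      _ = 1 := by rw [h1]; group
  have hvinv : v⁻¹ = v := by rw [inv_eq_iff_mul_eq_one]; exact hvv
  have hvs : v * s * v⁻¹ = i := by
    rw [hvinv, hv]
    calc r ^ k * s * s * (r ^ k * s) = r ^ k * (s * s) * r ^ k * s := by group
      _ = r ^ (2 * k) * s := by rw [hss, mul_one, ← pow_add, two_mul]
      _ = i := by rw [hk1, hinv, mul_assoc, hss, mul_one]
  refine ⟨v, orderOf_eq_prime (by rw [pow_two, hvv]) ?_, hvs, ?_⟩
  · intro h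
    rw [h] at hvs
    have : s = i := by simpa using hvs
    rw [hr, this, involution_mul_self hi] at hv
    rw [h] at hv
    exact involution_ne_one hi (by simpa using hv.symm)
  · rw [hv]
    exact mul_mem (pow_mem (mul_mem (Subgroup.subset_closure (by simp))
      (Subgroup.subset_closure (by simp))) k) (Subgroup.subset_closure (by simp))

/-- Two involutions with product of even order commute with a common involution. -/
theorem exists_involution_commute_of_even {s i : G} (hs : orderOf s = 2) (hi : orderOf i = 2)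
    (hev : Even (orderOf (s * i))) (hne : orderOf (s * i) ≠ 0) :
    ∃ c : G, orderOf c = 2 ∧ Commute c s ∧ Commute c i := by
  obtain ⟨k, hk⟩ := hev
  set r := s * i with hr
  have hss := involution_mul_self hs
  have hinv : r⁻¹ = i * s := by rw [hr, mul_inv_rev, involution_inv hs, involution_inv hi]
  have hsr : s * r * s = r⁻¹ := by rw [hinv, hr, ← mul_assoc, hss, one_mul]
  set c := r ^ k with hc
  have hc2 : orderOf c = 2 := by
    rw [hc, orderOf_pow' _ (by omega), show orderOf r = 2 * k by omega]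
    rw [Nat.gcd_eq_right (Dvd.intro_left 2 rfl), Nat.mul_div_cancel _ (by omega)]
  have h1 : s * c * s = c := by
    rw [hc, involution_swap hs r hsr k, ← hc, involution_inv hc2]
  have h2 : Commute c s := by
    unfold Commute SemiconjBy
    conv_lhs => rw [← h1]
    rw [mul_assoc, hss, mul_one]
  refine ⟨c, hc2, h2, ?_⟩
  have h3 : Commute c r := Commute.pow_self r k
  have : i = s * r := by rw [hr, ← mul_assoc, hss, one_mul]
  rw [this]
  exact h2.mul_right h3

variable {H : Subgroup G} (hH : Cfsg.IsStronglyEmbedded H)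
include hH

theorem se_mem_of_conj_mem {t g : G} (ht : orderOf t = 2) (htH : t ∈ H)
    (hg : g * t * g⁻¹ ∈ H) : g ∈ H := by
  by_contra hgH
  have hodd := hH.2.2 g hgH
  have hmem : g * t * g⁻¹ ∈ H ⊓ H.map (MulAut.conj g).toMonoidHom := ⟨hg, conj_mem_map_conj htH⟩
  have h2 : orderOf (g * t * g⁻¹) ∣ Nat.card ↥(H ⊓ H.map (MulAut.conj g).toMonoidHom) :=
    Subgroup.orderOf_dvd_natCard _ hmem
  rw [orderOf_conj', ht] at h2
  exact (Nat.not_even_iff_odd.2 hodd) (even_iff_two_dvd.2 h2)

theorem se_centralizer_le {t : G} (ht : orderOf t = 2) (htH : t ∈ H) :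
    Subgroup.centralizer ({t} : Set G) ≤ H := by
  intro g hg
  refine se_mem_of_conj_mem hH ht htH ?_
  rw [Subgroup.mem_centralizer_singleton_iff.1 hg]
  simpa using htH

theorem se_mem_of_commute {c t : G} (hc : orderOf c = 2) (hcH : c ∈ H) (h : Commute c t) : t ∈ H :=
  se_centralizer_le hH hc hcH (Subgroup.mem_centralizer_singleton_iff.2 h.symm.eq)

variable [Finite G]

theorem se_odd_product {s i : G} (hs : orderOf s = 2) (hsH : s ∈ H) (hi : orderOf i = 2)
    (hiH : i ∉ H) : Odd (orderOf (s * i)) := by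
  rw [← Nat.not_even_iff_odd]
  intro hev
  obtain ⟨c, hc, hcs, hci⟩ :=
    exists_involution_commute_of_even hs hi hev (orderOf_pos (s * i)).ne'
  exact hiH (se_mem_of_commute hH hc (se_mem_of_commute hH hs hsH hcs.symm) hci)

theorem se_exists_involution : ∃ t : G, orderOf t = 2 ∧ t ∈ H := by
  obtain ⟨t, ht⟩ := exists_prime_orderOf_dvd_card' (G := H) 2 (even_iff_two_dvd.1 hH.2.1)
  exact ⟨t, by rw [Subgroup.orderOf_coe]; exact ht, t.2⟩

/-- Existence in Bender's bijection. -/
theorem se_exists_swap {s i : G} (hs : orderOf s = 2) (hsH : s ∈ H) (hi : orderOf i = 2)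
    (hiH : i ∉ H) : ∃ v : G, orderOf v = 2 ∧ v * s * v⁻¹ = i ∧ v ∉ H := by
  obtain ⟨v, hv, hvs, -⟩ := exists_involution_conj_of_odd hs hi (se_odd_product hH hs hsH hi hiH)
  refine ⟨v, hv, hvs, fun hvH => hiH ?_⟩
  rw [← hvs]
  exact mul_mem (mul_mem hvH hsH) (inv_mem hvH)

/-- Uniqueness in Bender's bijection. -/
theorem se_swap_unique {s v w : G} (hs : orderOf s = 2) (hsH : s ∈ H) (hv : orderOf v = 2)
    (hvH : v ∉ H) (hw : orderOf w = 2) (hwH : w ∉ H) (h : v * s * v⁻¹ = w * s * w⁻¹) : v = w := by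
  obtain ⟨a, ha⟩ := se_odd_product hH hs hsH hv hvH
  obtain ⟨b, hb⟩ := se_odd_product hH hs hsH hw hwH
  have hsq : ∀ {x : G}, orderOf x = 2 → (s * x) ^ 2 = s * (x * s * x⁻¹) := fun hx => by
    rw [involution_inv hx, pow_two]; group
  have h2 : (s * v) ^ 2 = (s * w) ^ 2 := by rw [hsq hv, hsq hw, h]
  have hroot : ∀ {x : G} {m : ℕ}, orderOf x = 2 * m + 1 → (x ^ 2) ^ (m + 1) = x := fun {x m} hx => by
    have h1 : x ^ (2 * m + 1) = 1 := by rw [← hx]; exact pow_orderOf_eq_one x
    rw [← pow_mul, show 2 * (m + 1) = 2 * m + 1 + 1 by omega, pow_succ, h1, one_mul]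
  have hcop : (orderOf (s * v)).Coprime 2 := by rw [ha]; simp
  have hcop' : (orderOf (s * w)).Coprime 2 := by rw [hb]; simp
  have hoo : orderOf (s * v) = orderOf (s * w) := by
    rw [← Nat.Coprime.orderOf_pow hcop, h2, Nat.Coprime.orderOf_pow hcop']
  have hab : a = b := by omega
  have : s * v = s * w := by
    calc s * v = ((s * v) ^ 2) ^ (a + 1) := (hroot ha).symm
      _ = ((s * w) ^ 2) ^ (b + 1) := by rw [h2, hab]
      _ = s * w := hroot hb
  exact mul_left_cancel this

end Cfsg.Agent.TwoFusion
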