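import Mathlib.GroupTheory.SpecificGroups.Dihedral
import Mathlib.GroupTheory.SpecificGroups.KleinFour
import Mathlib.Data.Finite.Card

/-!
Four-subgroups of dihedral groups are self-centralising.
-/

set_option autoImplicit false

namespace Cfsg.Agent.TwoFusion

theorem card_two_torsion_le (m : ℕ) [NeZero m] : Nat.card {j : ZMod m // j + j = 0} ≤ 2 := by
  classical
  rw [Nat.card_eq_fintype_card, Fintype.card_subtype]
  refine le_trans (Finset.card_le_card ?_) (IsAddCyclic.card_nsmul_eq_zero_le (α := ZMod m) two_pos)
  intro j hj
  simp only [Finset.mem_filter, Finset.mem_univ, true_and] at hj ⊢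
  rw [two_nsmul]
  exact hj

/-- A subgroup of order 4 all of whose elements square to 1 is self-centralising in a dihedral
group. -/
theorem centralizer_le_of_four {m : ℕ} [NeZero m] (U : Subgroup (DihedralGroup m))
    (hU : Nat.card U = 4) (hsq : ∀ u ∈ U, u * u = 1) :
    Subgroup.centralizer (U : Set (DihedralGroup m)) ≤ U := by
  classical
  have hcomm : ∀ a ∈ U, ∀ b ∈ U, a * b = b * a := by
    intro a ha b hb
    calc a * b = (a * b)⁻¹ := (inv_eq_of_mul_eq_one_left (hsq _ (mul_mem ha hb))).symm
      _ = b⁻¹ * a⁻¹ := mul_inv_rev a b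
      _ = b * a := by rw [inv_eq_of_mul_eq_one_left (hsq b hb), inv_eq_of_mul_eq_one_left (hsq a ha)]
  obtain ⟨i, hi⟩ : ∃ i, DihedralGroup.sr i ∈ U := by
    by_contra hcon
    push Not at hcon
    let f : U → {j : ZMod m // j + j = 0} := fun u => match h : (u : DihedralGroup m) with
      | .r j => ⟨j, by
          have := hsq _ u.2
          rw [h, DihedralGroup.r_mul_r, DihedralGroup.one_def] at this
          exact DihedralGroup.r.injEq _ _ ▸ this⟩
      | .sr j => absurd (h ▸ u.2) (hcon j)
    have hf : Function.Injective f := by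
      rintro ⟨u, hu⟩ ⟨v, hv⟩ h
      rcases u with a | a
      · rcases v with b | b
        · simpa [f] using h
        · exact absurd hv (hcon b)
      · exact absurd hu (hcon a)
    have := (Nat.card_le_card_of_injective f hf).trans (card_two_torsion_le m)
    omega
  have hsub : Subgroup.centralizer (U : Set (DihedralGroup m)) ≤
      Subgroup.centralizer ({DihedralGroup.sr i} : Set (DihedralGroup m)) :=
    Subgroup.centralizer_le (by simpa using hi)
  have hcard : Nat.card (Subgroup.centralizer ({DihedralGroup.sr i} : Set (DihedralGroup m))) ≤ 4 := by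
    let g : {j : ZMod m // j + j = 0} × Bool → DihedralGroup m := fun p =>
      if p.2 then .r p.1.1 else .sr (p.1.1 + i)
    have hr : ∀ x ∈ Subgroup.centralizer ({DihedralGroup.sr i} : Set (DihedralGroup m)),
        ∃ p, g p = x := by
      intro x hx
      rw [Subgroup.mem_centralizer_singleton_iff] at hx
      rcases x with j | j
      · rw [DihedralGroup.r_mul_sr, DihedralGroup.sr_mul_r, DihedralGroup.sr.injEq] at hx
        refine ⟨(⟨j, ?_⟩, true), by simp [g]⟩
        calc j + j = (i + j) - (i - j) := by ring
          _ = 0 := by rw [hx]; ring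
      · rw [DihedralGroup.sr_mul_sr, DihedralGroup.sr_mul_sr, DihedralGroup.r.injEq] at hx
        refine ⟨(⟨j - i, ?_⟩, false), by simp [g]⟩
        calc (j - i) + (j - i) = (j - i) - (i - j) := by ring
          _ = 0 := by rw [hx]; ring
    choose p hp using hr
    have h1 := Nat.card_le_card_of_injective (fun x : Subgroup.centralizer
        ({DihedralGroup.sr i} : Set (DihedralGroup m)) => p x.1 x.2) (fun x y h => Subtype.ext (by
      rw [← hp x.1 x.2, ← hp y.1 y.2]; exact congrArg g h))
    rw [Nat.card_prod, show Nat.card Bool = 2 by simp] at h1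
    have := card_two_torsion_le m
    omega
  have hle : U ≤ Subgroup.centralizer (U : Set (DihedralGroup m)) := fun a ha =>
    Subgroup.mem_centralizer_iff.2 fun b hb => hcomm b hb a ha
  exact le_of_eq (Subgroup.eq_of_le_of_card_ge hle
    ((Subgroup.card_le_of_le hsub).trans (hcard.trans hU.ge))).symm

end Cfsg.Agent.TwoFusion
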