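import Cfsg.Agent.TwoFusion.SEBasic
import Mathlib.GroupTheory.GroupAction.Quotient
import Mathlib.GroupTheory.Complement
import Mathlib.Data.Finite.Card

/-!
Brauer–Suzuki–Wall setting: all involution centralisers are elementary abelian 2-groups.
-/

set_option autoImplicit false

namespace Cfsg.Agent.TwoFusion.BSW

variable {G : Type*} [Group G] [Finite G] {T : Sylow 2 G}

/-- The standing hypotheses. -/
def Hyp (T : Sylow 2 G) : Prop :=
  ¬ IsCyclic (T : Subgroup G) ∧ ¬ (T : Subgroup G).Normal ∧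
    ∀ t : G, orderOf t = 2 → IsMulCommutative (Subgroup.centralizer ({t} : Set G)) ∧
      ∀ c ∈ Subgroup.centralizer ({t} : Set G), c ^ 2 = 1

/-- `N_G(T)`. -/
abbrev nT (T : Sylow 2 G) : Subgroup G := Subgroup.normalizer ((T : Subgroup G) : Set G)

/-- The two point stabiliser of the cosets of `1` and `a`. -/
abbrev dD (T : Sylow 2 G) (a : G) : Subgroup G := nT T ⊓ (nT T).map (MulAut.conj a).toMonoidHom

theorem four_le_card (h : Hyp T) : 4 ≤ Nat.card T := by
  obtain ⟨k, hk⟩ := IsPGroup.iff_card.1 T.isPGroup'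
  rcases k with _ | _ | k
  · exfalso
    apply h.1
    haveI : Subsingleton (T : Subgroup G) := (Nat.card_eq_one_iff_unique.1 (by simpa using hk)).1
    infer_instance
  · exfalso
    apply h.1
    exact isCyclic_of_prime_card (p := 2) (by simpa using hk)
  · change 4 ≤ Nat.card (T : Subgroup G)
    rw [hk]
    calc 4 = 2 ^ 2 := rfl
      _ ≤ 2 ^ (k + 1 + 1) := Nat.pow_le_pow_right (by norm_num) (by omega)

theorem isPGroup_centralizer (h : Hyp T) {t : G} (ht : orderOf t = 2) :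
    IsPGroup 2 (Subgroup.centralizer ({t} : Set G)) := fun c =>
  ⟨1, Subtype.ext (by simpa using (h.2.2 t ht).2 c c.2)⟩

theorem exists_central_involution (h : Hyp T) :
    ∃ z ∈ (T : Subgroup G), orderOf z = 2 ∧ ∀ t ∈ (T : Subgroup G), t * z = z * t := by
  haveI : Nontrivial (T : Subgroup G) := Finite.one_lt_card_iff_nontrivial.1
    (lt_of_lt_of_le (by norm_num) (four_le_card h))
  haveI := T.isPGroup'.center_nontrivial
  obtain ⟨k, hk⟩ := IsPGroup.iff_card.1 (T.isPGroup'.to_subgroup (Subgroup.center (T : Subgroup G)))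
  have hk1 : k ≠ 0 := by
    rintro rfl
    exact absurd hk (Finite.one_lt_card (α := Subgroup.center (T : Subgroup G))).ne'
  obtain ⟨z, hz⟩ := exists_prime_orderOf_dvd_card' (G := Subgroup.center (T : Subgroup G)) 2
    (by rw [hk]; exact dvd_pow_self 2 hk1)
  refine ⟨(z : (T : Subgroup G)).1, (z : (T : Subgroup G)).2, ?_, fun t ht => ?_⟩
  · rw [Subgroup.orderOf_coe, Subgroup.orderOf_coe]; exact hz
  · exact congrArg Subtype.val (Subgroup.mem_center_iff.1 z.2 ⟨t, ht⟩)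

theorem sylow_comm (h : Hyp T) :
    (∀ a ∈ (T : Subgroup G), ∀ b ∈ (T : Subgroup G), a * b = b * a) ∧
      ∀ a ∈ (T : Subgroup G), a ^ 2 = 1 := by
  obtain ⟨z, hzT, hz, hc⟩ := exists_central_involution h
  have hle : ∀ a ∈ (T : Subgroup G), a ∈ Subgroup.centralizer ({z} : Set G) := fun a ha =>
    Subgroup.mem_centralizer_singleton_iff.2 (hc a ha)
  obtain ⟨⟨hcomm⟩, hsq⟩ := h.2.2 z hz
  exact ⟨fun a ha b hb => congrArg Subtype.val (hcomm.comm ⟨a, hle a ha⟩ ⟨b, hle b hb⟩),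
    fun a ha => hsq a (hle a ha)⟩

theorem involution_of_mem (h : Hyp T) {t : G} (ht : t ∈ (T : Subgroup G)) (h1 : t ≠ 1) :
    orderOf t = 2 := orderOf_eq_prime ((sylow_comm h).2 t ht) h1

theorem centralizer_eq (h : Hyp T) {t : G} (ht : orderOf t = 2) (htT : t ∈ (T : Subgroup G)) :
    Subgroup.centralizer ({t} : Set G) = (T : Subgroup G) :=
  T.is_maximal' (isPGroup_centralizer h ht) fun a ha =>
    Subgroup.mem_centralizer_singleton_iff.2 ((sylow_comm h).1 a ha t htT)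

theorem le_nT : (T : Subgroup G) ≤ nT T := Subgroup.le_normalizer

omit [Finite G] in
theorem two_elt_mem {t : G} (ht : t ∈ nT T) (hp : IsPGroup 2 (Subgroup.zpowers t)) :
    t ∈ (T : Subgroup G) := by
  have := T.is_maximal' (T.isPGroup'.to_sup_of_normal_left' hp (Subgroup.zpowers_le.2 ht))
    le_sup_left
  rw [← this]
  exact (le_sup_right : Subgroup.zpowers t ≤ _) (Subgroup.mem_zpowers t)

omit [Finite G] in
theorem inv_mem_T {t : G} (ht : orderOf t = 2) (htN : t ∈ nT T) : t ∈ (T : Subgroup G) := by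
  refine two_elt_mem htN (IsPGroup.of_card (n := 1) ?_)
  rw [Nat.card_zpowers, ht, pow_one]

theorem mem_of_ti (h : Hyp T) {t g : G} (ht : orderOf t = 2) (htT : t ∈ (T : Subgroup G))
    (hg : g * t * g⁻¹ ∈ (T : Subgroup G)) : g ∈ nT T := by
  have h2 := centralizer_eq h ((orderOf_conj' g t).trans ht) hg
  rw [← map_conj_eq_self_iff_mem_normalizer]
  apply Subgroup.eq_of_le_of_card_ge
  · rintro x ⟨a, ha, rfl⟩
    rw [← h2, Subgroup.mem_centralizer_singleton_iff]
    simpa [mul_assoc] using congrArg (fun y => g * y * g⁻¹) ((sylow_comm h).1 a ha t htT)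
  · rw [card_map_conj]

theorem stronglyEmbedded (h : Hyp T) : Cfsg.IsStronglyEmbedded (nT T) := by
  obtain ⟨z, hzT, hz, -⟩ := exists_central_involution h
  refine ⟨fun e => h.2.1 (Subgroup.normalizer_eq_top_iff.1 e), ?_, fun g hg => ?_⟩
  · rw [even_iff_two_dvd]
    have := Subgroup.orderOf_dvd_natCard (nT T) (le_nT hzT)
    rwa [hz] at this
  · rw [← Nat.not_even_iff_odd, even_iff_two_dvd]
    intro hd
    obtain ⟨⟨x, hx12⟩, hx⟩ := exists_prime_orderOf_dvd_card'
      (G := ↥(nT T ⊓ (nT T).map (MulAut.conj g).toMonoidHom)) 2 hd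
    have hx' : orderOf x = 2 := by rw [← hx, ← Subgroup.orderOf_coe]
    have hx1 : x ∈ nT T := hx12.1
    have hx2 : g⁻¹ * x * g ∈ nT T := mem_map_conj_iff.1 hx12.2
    have hy : orderOf (g⁻¹ * x * g) = 2 := by simpa using (orderOf_conj' g⁻¹ x).trans hx'
    have hy' := inv_mem_T hy hx2
    exact hg (mem_of_ti h hy hy' (by simpa [mul_assoc] using inv_mem_T hx' hx1))

theorem dD_inf_T (h : Hyp T) {a : G} (ha : a ∉ nT T) {x : G} (hx : x ∈ dD T a)
    (hxT : x ∈ (T : Subgroup G)) : x = 1 := by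
  by_contra h1
  have h2 := Subgroup.orderOf_dvd_natCard _ hx
  rw [involution_of_mem h hxT h1] at h2
  exact (Nat.not_even_iff_odd.2 ((stronglyEmbedded h).2.2 a ha)) (even_iff_two_dvd.2 h2)

theorem eq_one_of_commute (h : Hyp T) {a : G} (ha : a ∉ nT T) {d t : G} (hd : d ∈ dD T a)
    (hd1 : d ≠ 1) (ht : t ∈ (T : Subgroup G)) (hc : d * t = t * d) : t = 1 := by
  by_contra h1
  have h2 : d ∈ Subgroup.centralizer ({t} : Set G) :=
    Subgroup.mem_centralizer_singleton_iff.2 hc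
  rw [centralizer_eq h (involution_of_mem h ht h1) ht] at h2
  exact hd1 (dD_inf_T h ha hd h2)

/-- For each pair of involutions of `T` there is an element of the two point stabiliser that
conjugates the first to the second and is inverted by `u`. -/
theorem exists_d_inverted (h : Hyp T) {u : G} (hu : orderOf u = 2) (huN : u ∉ nT T) {s t : G}
    (hs : orderOf s = 2) (hsT : s ∈ (T : Subgroup G)) (ht : orderOf t = 2)
    (htT : t ∈ (T : Subgroup G)) : ∃ d ∈ dD T u, d * s * d⁻¹ = t ∧ u * d * u⁻¹ = d⁻¹ := by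
  have hH := stronglyEmbedded h
  have huinv := involution_inv hu
  have h1 : u * t * u⁻¹ ∉ nT T := fun h' => huN (se_mem_of_conj_mem hH ht (le_nT htT) h')
  obtain ⟨v, hv, hvs, -⟩ := se_exists_swap hH hs (le_nT hsT) ((orderOf_conj' _ _).trans ht) h1
  have h2 : (u⁻¹ * v) * s * (u⁻¹ * v)⁻¹ = t := by
    have h' := congrArg (fun z => u⁻¹ * z * u) hvs
    simpa [mul_assoc] using h'
  have h3 : u⁻¹ * v ∈ nT T := se_mem_of_conj_mem hH hs (le_nT hsT) (by rw [h2]; exact le_nT htT)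
  have h4 : u * (u⁻¹ * v) * u⁻¹ = (u⁻¹ * v)⁻¹ := by
    rw [mul_inv_rev, inv_inv, involution_inv hv, huinv, ← mul_assoc, involution_mul_self hu,
      one_mul]
  refine ⟨u⁻¹ * v, ⟨h3, mem_map_conj_iff.2 ?_⟩, h2, h4⟩
  have h5 := inv_mem h3
  rw [← h4] at h5
  rw [huinv] at h5 ⊢
  exact h5

theorem d_unique (h : Hyp T) {u : G} (huN : u ∉ nT T) {s d e : G}
    (hs : orderOf s = 2) (hsT : s ∈ (T : Subgroup G)) (hd : d ∈ dD T u) (he : e ∈ dD T u)
    (he2 : d * s * d⁻¹ = e * s * e⁻¹) : d = e := by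
  by_contra hne
  have hk : e⁻¹ * d ∈ dD T u := mul_mem (inv_mem he) hd
  have hk1 : e⁻¹ * d ≠ 1 := fun h1 => hne (inv_mul_eq_one.1 h1).symm
  refine involution_ne_one hs (eq_one_of_commute h huN hk hk1 hsT ?_)
  calc e⁻¹ * d * s = e⁻¹ * (d * s * d⁻¹) * d := by group
    _ = s * (e⁻¹ * d) := by rw [he2]; group

theorem u_inverts (h : Hyp T) {u : G} (hu : orderOf u = 2) (huN : u ∉ nT T) :
    ∀ d ∈ dD T u, u * d * u⁻¹ = d⁻¹ := by
  intro d hd
  obtain ⟨z, hzT, hz, -⟩ := exists_central_involution h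
  have hdz : d * z * d⁻¹ ∈ (T : Subgroup G) := (Subgroup.mem_normalizer_iff.1 hd.1 z).1 hzT
  obtain ⟨e, he, hes, hei⟩ :=
    exists_d_inverted h hu huN hz hzT ((orderOf_conj' d z).trans hz) hdz
  rw [d_unique h huN hz hzT hd he hes.symm]
  exact hei

theorem dD_comm (h : Hyp T) {u : G} (hu : orderOf u = 2) (huN : u ∉ nT T) {d e : G}
    (hd : d ∈ dD T u) (he : e ∈ dD T u) : d * e = e * d := by
  have h1 := u_inverts h hu huN _ (mul_mem (inv_mem hd) (inv_mem he))
  have h2 : u * (d⁻¹ * e⁻¹) * u⁻¹ = (u * d⁻¹ * u⁻¹) * (u * e⁻¹ * u⁻¹) := by group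
  rw [h2, u_inverts h hu huN _ (inv_mem hd), u_inverts h hu huN _ (inv_mem he)] at h1
  simpa using h1

theorem card_dD_of_involution (h : Hyp T) {u : G} (hu : orderOf u = 2) (huN : u ∉ nT T) :
    Nat.card (dD T u) = Nat.card T - 1 := by
  classical
  obtain ⟨z, hzT, hz, -⟩ := exists_central_involution h
  have e : dD T u ≃ {t : (T : Subgroup G) // t ≠ 1} := by
    refine Equiv.ofBijective (fun d => ⟨⟨d.1 * z * d.1⁻¹,
      (Subgroup.mem_normalizer_iff.1 d.2.1 z).1 hzT⟩, fun h1 => involution_ne_one hz ?_⟩) ⟨?_, ?_⟩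
    · exact conj_eq_one_iff.1 (congrArg Subtype.val h1)
    · intro a b hab
      exact Subtype.ext (d_unique h huN hz hzT a.2 b.2
        (congrArg (fun x : {t : (T : Subgroup G) // t ≠ 1} => ((x.1 : (T : Subgroup G)) : G)) hab))
    · rintro ⟨⟨t, ht⟩, ht1⟩
      obtain ⟨d, hd, hdz, -⟩ := exists_d_inverted h hu huN hz hzT
        (involution_of_mem h ht fun e => ht1 (Subtype.ext e)) ht
      exact ⟨⟨d, hd⟩, Subtype.ext (Subtype.ext hdz)⟩
  rw [Nat.card_congr e]
  haveI : Fintype (T : Subgroup G) := Fintype.ofFinite _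
  simp [Nat.card_eq_fintype_card, Fintype.card_subtype_compl]

/-- Every coset outside `N` contains an involution. -/
theorem exists_involution_in_coset (h : Hyp T) {a : G} (ha : a ∉ nT T) :
    ∃ v : G, orderOf v = 2 ∧ v ∉ nT T ∧ a⁻¹ * v ∈ nT T := by
  have hH := stronglyEmbedded h
  obtain ⟨z, hzT, hz, -⟩ := exists_central_involution h
  have h1 : a * z * a⁻¹ ∉ nT T := fun h' => ha (se_mem_of_conj_mem hH hz (le_nT hzT) h')
  obtain ⟨v, hv, hvs, hvN⟩ := se_exists_swap hH hz (le_nT hzT) ((orderOf_conj' _ _).trans hz) h1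
  refine ⟨v, hv, hvN, se_mem_of_conj_mem hH hz (le_nT hzT) ?_⟩
  have h' := congrArg (fun y => a⁻¹ * y * a) hvs
  have h2 : a⁻¹ * v * z * (a⁻¹ * v)⁻¹ = z := by simpa [mul_assoc] using h'
  rw [h2]; exact le_nT hzT

omit [Finite G] in
theorem map_nT_eq {a b : G} (hab : a⁻¹ * b ∈ nT T) :
    (nT T).map (MulAut.conj a).toMonoidHom = (nT T).map (MulAut.conj b).toMonoidHom := by
  ext x
  rw [mem_map_conj_iff, mem_map_conj_iff]
  constructor
  · intro hx
    have := mul_mem (mul_mem (inv_mem hab) hx) hab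
    simpa [mul_assoc] using this
  · intro hx
    have := mul_mem (mul_mem hab hx) (inv_mem hab)
    simpa [mul_assoc] using this

omit [Finite G] in
theorem dD_congr {a b : G} (hab : a⁻¹ * b ∈ nT T) : dD T a = dD T b := by
  unfold dD; rw [map_nT_eq hab]

theorem card_dD (h : Hyp T) {a : G} (ha : a ∉ nT T) : Nat.card (dD T a) = Nat.card T - 1 := by
  obtain ⟨v, hv, hvN, hav⟩ := exists_involution_in_coset h ha
  rw [dD_congr hav, card_dD_of_involution h hv hvN]

theorem dD_comm' (h : Hyp T) {a : G} (ha : a ∉ nT T) {d e : G}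
    (hd : d ∈ dD T a) (he : e ∈ dD T a) : d * e = e * d := by
  obtain ⟨v, hv, hvN, hav⟩ := exists_involution_in_coset h ha
  rw [dD_congr hav] at hd he
  exact dD_comm h hv hvN hd he

/-- `N = D T`. -/
theorem exists_decomp (h : Hyp T) {a : G} (ha : a ∉ nT T) {x : G} (hx : x ∈ nT T) :
    ∃ d ∈ dD T a, ∃ t ∈ (T : Subgroup G), x = d * t := by
  obtain ⟨v, hv, hvN, hav⟩ := exists_involution_in_coset h ha
  obtain ⟨z, hzT, hz, -⟩ := exists_central_involution h
  obtain ⟨d, hd, hdz, -⟩ := exists_d_inverted h hv hvN hz hzT ((orderOf_conj' x z).trans hz)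
    ((Subgroup.mem_normalizer_iff.1 hx z).1 hzT)
  refine ⟨d, by rw [dD_congr hav]; exact hd, d⁻¹ * x, ?_, by simp⟩
  rw [← centralizer_eq h hz hzT, Subgroup.mem_centralizer_singleton_iff]
  have h' := congrArg (fun y => d⁻¹ * y * x) hdz
  simp only [mul_assoc] at h'
  simpa [mul_assoc] using h'.symm

theorem isComplement (h : Hyp T) {a : G} (ha : a ∉ nT T) :
    Subgroup.IsComplement' ((dD T a).subgroupOf (nT T)) ((T : Subgroup G).subgroupOf (nT T)) := by
  have hdis : Disjoint ((dD T a).subgroupOf (nT T)) ((T : Subgroup G).subgroupOf (nT T)) := by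
    rw [disjoint_iff, eq_bot_iff]
    intro x hx
    exact Subgroup.mem_bot.2 (Subtype.ext (dD_inf_T h ha hx.1 hx.2))
  refine Subgroup.isComplement'_of_disjoint_and_mul_eq_univ hdis (Set.eq_univ_of_forall fun x => ?_)
  obtain ⟨d, hd, t, ht, hxe⟩ := exists_decomp h ha x.2
  exact Set.mem_mul.2 ⟨⟨d, hd.1⟩, hd, ⟨t, le_nT ht⟩, ht, Subtype.ext hxe.symm⟩

theorem card_nT (h : Hyp T) {a : G} (ha : a ∉ nT T) :
    Nat.card (nT T) = Nat.card T * (Nat.card T - 1) := by
  rw [← (isComplement h ha).card_mul, mul_comm,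
    Nat.card_congr (Subgroup.subgroupOfEquivOfLe (inf_le_left : dD T a ≤ nT T)).toEquiv,
    Nat.card_congr (Subgroup.subgroupOfEquivOfLe (le_nT (T := T))).toEquiv, card_dD h ha]

theorem exists_ne_one_dD (h : Hyp T) {a : G} (ha : a ∉ nT T) : ∃ d ∈ dD T a, d ≠ 1 := by
  have h1 : 1 < Nat.card (dD T a) := by
    rw [card_dD h ha]; have := four_le_card h; omega
  haveI := Finite.one_lt_card_iff_nontrivial.1 h1
  obtain ⟨d, hd⟩ := exists_ne (1 : dD T a)
  exact ⟨d, d.2, fun e => hd (Subtype.ext e)⟩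

/-- An element of `N` that commutes with a nontrivial element of `D` lies in `D`. -/
theorem mem_dD_of_commute (h : Hyp T) {a : G} (ha : a ∉ nT T) {d x : G} (hd : d ∈ dD T a)
    (hd1 : d ≠ 1) (hx : x ∈ nT T) (hc : d * x = x * d) : x ∈ dD T a := by
  obtain ⟨e, he, t, ht, rfl⟩ := exists_decomp h ha hx
  have : d * t = t * d := by
    refine mul_left_cancel (a := e) ?_
    calc e * (d * t) = (d * e) * t := by rw [dD_comm' h ha hd he, mul_assoc]
      _ = e * t * d := by rw [mul_assoc, hc]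
      _ = e * (t * d) := mul_assoc _ _ _
  rw [eq_one_of_commute h ha hd hd1 ht this, mul_one]
  exact he

/-- An element of `N` normalising `D` lies in `D`. -/
theorem mem_dD_of_normalizes (h : Hyp T) {a : G} (ha : a ∉ nT T) {x : G} (hx : x ∈ nT T)
    (hn : ∀ d ∈ dD T a, x * d * x⁻¹ ∈ dD T a) : x ∈ dD T a := by
  obtain ⟨e, he, t, ht, rfl⟩ := exists_decomp h ha hx
  obtain ⟨d, hd, hd1⟩ := exists_ne_one_dD h ha
  have h1 : t * d * t⁻¹ ∈ dD T a := by
    have := mul_mem (mul_mem (inv_mem he) (hn d hd)) he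
    simpa [mul_assoc] using this
  have h2 : t * d * t⁻¹ * d⁻¹ ∈ (T : Subgroup G) := by
    have h3 : d * t⁻¹ * d⁻¹ ∈ (T : Subgroup G) :=
      (Subgroup.mem_normalizer_iff.1 hd.1 t⁻¹).1 (inv_mem ht)
    simpa [mul_assoc] using mul_mem ht h3
  have h4 : t * d * t⁻¹ * d⁻¹ = 1 := dD_inf_T h ha (mul_mem h1 (inv_mem hd)) h2
  rw [mul_inv_eq_one, mul_inv_eq_iff_eq_mul] at h4
  rw [eq_one_of_commute h ha hd hd1 ht h4.symm, mul_one]
  exact he

theorem not_inverts_and_commutes (h : Hyp T) {a : G} (ha : a ∉ nT T) {d : G} (hd : d ∈ dD T a)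
    (hd1 : d ≠ 1) (he : d⁻¹ = d) : False := by
  have h2 : orderOf d = 2 := orderOf_eq_prime (by
    rw [pow_two]; nth_rw 1 [← he]; exact inv_mul_cancel d) hd1
  exact hd1 (dD_inf_T h ha hd (inv_mem_T h2 hd.1))

/-- `D` fixes only two cosets. -/
theorem fixed_two (h : Hyp T) {u : G} (hu : orderOf u = 2) (huN : u ∉ nT T) {b : G}
    (hb : dD T u ≤ (nT T).map (MulAut.conj b).toMonoidHom) : b ∈ nT T ∨ u⁻¹ * b ∈ nT T := by
  have huinv := involution_inv hu
  have hinvD : ∀ d ∈ dD T u, u * d * u⁻¹ = d⁻¹ := u_inverts h hu huN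
  set C := Subgroup.centralizer (dD T u : Set G) with hC
  have hCmem : ∀ c, c ∈ C ↔ ∀ d ∈ dD T u, d * c = c * d := fun c => Subgroup.mem_centralizer_iff
  -- Step K
  have hK : ∀ b : G, dD T u ≤ (nT T).map (MulAut.conj b).toMonoidHom → u⁻¹ * b ∉ nT T →
      ∃ c ∈ C, b⁻¹ * c ∈ nT T := by
    intro b hb hbu
    have hub : u * b ∉ nT T := by rwa [huinv] at hbu
    obtain ⟨v, hv, hvN, hav⟩ := exists_involution_in_coset h hub
    have hle : dD T u ≤ dD T (u * b) := by
      intro d hd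
      refine ⟨hd.1, mem_map_conj_iff.2 ?_⟩
      have h1 := hb (inv_mem hd)
      rw [mem_map_conj_iff, ← hinvD d hd] at h1
      simpa [mul_assoc, huinv] using h1
    have heq : dD T u = dD T v := by
      rw [← dD_congr hav]
      exact Subgroup.eq_of_le_of_card_ge hle (by rw [card_dD h hub, card_dD h huN])
    refine ⟨u * v, (hCmem _).2 fun d hd => ?_, ?_⟩
    · have h1 : v * d * v⁻¹ = d⁻¹ := u_inverts h hv hvN d (heq ▸ hd)
      have h2 := hinvD d⁻¹ (inv_mem hd)
      calc d * (u * v) = (u * d⁻¹ * u⁻¹) * (u * v) := by rw [h2, inv_inv]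
        _ = u * d⁻¹ * v := by group
        _ = u * (v * d * v⁻¹) * v := by rw [h1]
        _ = u * v * d := by group
    · rw [mul_inv_rev, mul_assoc, huinv] at hav
      simpa [mul_assoc] using hav
  by_contra hcon
  push Not at hcon
  obtain ⟨c, hc, hbc⟩ := hK b hb hcon.2
  obtain ⟨d, hd, hd1⟩ := exists_ne_one_dD h huN
  have hCy : ∀ c ∈ C, u⁻¹ * c * u ∈ nT T := by
    intro c hc
    by_contra hcy
    have hfix : dD T u ≤ (nT T).map (MulAut.conj (c * u)).toMonoidHom := by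
      intro e he
      have h1 : u⁻¹ * e * u ∈ nT T := mem_map_conj_iff.1 he.2
      rw [mem_map_conj_iff]
      have h2 : c⁻¹ * e * c = e := by rw [mul_assoc, (hCmem c).1 hc e he, inv_mul_cancel_left]
      rw [show (c * u)⁻¹ * e * (c * u) = u⁻¹ * (c⁻¹ * e * c) * u by group, h2]
      exact h1
    obtain ⟨c', hc', hcu⟩ := hK (c * u) hfix (by simpa [mul_assoc] using hcy)
    have hx : u⁻¹ * (c⁻¹ * c') ∈ nT T := by simpa [mul_assoc] using hcu
    set x := u⁻¹ * (c⁻¹ * c') with hxdef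
    have hxd : ∀ e ∈ dD T u, x * e * x⁻¹ = e⁻¹ := by
      intro e he
      have h1 := (hCmem _).1 (mul_mem (inv_mem hc) hc') e he
      calc x * e * x⁻¹ = u⁻¹ * ((c⁻¹ * c') * e) * (c⁻¹ * c')⁻¹ * u := by rw [hxdef]; group
        _ = u * e * u⁻¹ := by rw [← h1, huinv]; group
        _ = e⁻¹ := hinvD e he
    have hxD := mem_dD_of_normalizes h huN hx fun e he => by rw [hxd e he]; exact inv_mem he
    refine not_inverts_and_commutes h huN hd hd1 ?_
    rw [← hxd d hd, dD_comm h hu huN hxD hd, mul_inv_cancel_right]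
  have hcN : c ∈ nT T := by
    have hx := hCy c hc
    have hcomm : d * (u⁻¹ * c * u) = (u⁻¹ * c * u) * d := by
      have h2 : u * d * u⁻¹ * c = c * (u * d * u⁻¹) := by
        rw [hinvD d hd]; exact (hCmem c).1 hc _ (inv_mem hd)
      calc d * (u⁻¹ * c * u) = u⁻¹ * (u * d * u⁻¹ * c) * u := by group
        _ = u⁻¹ * (c * (u * d * u⁻¹)) * u := by rw [h2]
        _ = (u⁻¹ * c * u) * d := by group
    have hD' := mem_dD_of_commute h huN hd hd1 hx hcomm
    have := hinvD _ hD'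
    rw [show u * (u⁻¹ * c * u) * u⁻¹ = c by group] at this
    rw [this]
    exact (inv_mem hD').1
  refine hcon.1 ?_
  have := mul_mem hcN (inv_mem hbc)
  simpa [mul_assoc] using this

/-- Only the identity fixes three cosets. -/
theorem three_fixed (h : Hyp T) {a b : G} (ha : a ∉ nT T) (hb : b ∉ nT T) (hab : a⁻¹ * b ∉ nT T)
    {d : G} (hda : d ∈ dD T a) (hdb : d ∈ dD T b) : d = 1 := by
  by_contra hd1
  have hle : dD T a ≤ dD T b := fun e he =>
    mem_dD_of_commute h hb hdb hd1 he.1 (dD_comm' h ha hda he)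
  obtain ⟨v, hv, hvN, hav⟩ := exists_involution_in_coset h ha
  rw [dD_congr hav] at hle
  rcases fixed_two h hv hvN (fun e he => (hle he).2) with h1 | h1
  · exact hb h1
  · exact hab (by simpa [mul_assoc] using mul_mem hav h1)

end Cfsg.Agent.TwoFusion.BSW

namespace Cfsg.Agent.TwoFusion.BSW

variable {G : Type*} [Group G] [Finite G] {T : Sylow 2 G}

theorem exists_not_mem (h : Hyp T) : ∃ a : G, a ∉ nT T := by
  by_contra hcon
  push Not at hcon
  exact (stronglyEmbedded h).1 (eq_top_iff.2 fun x _ => hcon x)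

omit [Finite G] in
theorem smul_mk_iff {g a b : G} :
    g • (QuotientGroup.mk a : G ⧸ nT T) = QuotientGroup.mk b ↔ b⁻¹ * g * a ∈ nT T := by
  rw [MulAction.Quotient.smul_mk, QuotientGroup.eq, smul_eq_mul, ← inv_mem_iff]
  simp [mul_assoc]

omit [Finite G] in
theorem mem_dD_iff {g a : G} :
    g ∈ dD T a ↔ g ∈ nT T ∧ g • (QuotientGroup.mk a : G ⧸ nT T) = QuotientGroup.mk a := by
  rw [smul_mk_iff, Subgroup.mem_inf, mem_map_conj_iff]

omit [Finite G] in
theorem mk_eq_one_iff' {a : G} :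
    (QuotientGroup.mk a : G ⧸ nT T) = QuotientGroup.mk 1 ↔ a ∈ nT T := by
  rw [QuotientGroup.eq]; simp

omit [Finite G] in
theorem mem_nT_iff_fix {g : G} :
    g ∈ nT T ↔ g • (QuotientGroup.mk 1 : G ⧸ nT T) = QuotientGroup.mk 1 := by
  rw [smul_mk_iff]; simp

/-- Elements of `T` act semiregularly on the cosets outside `N`. -/
theorem T_semireg (h : Hyp T) {s t a : G} (hs : s ∈ (T : Subgroup G)) (ht : t ∈ (T : Subgroup G))
    (ha : a ∉ nT T)
    (he : s • (QuotientGroup.mk a : G ⧸ nT T) = t • QuotientGroup.mk a) : s = t := by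
  have h1 : (t⁻¹ * s) • (QuotientGroup.mk a : G ⧸ nT T) = QuotientGroup.mk a := by
    rw [mul_smul, he, inv_smul_smul]
  have h2 : t⁻¹ * s ∈ (T : Subgroup G) := mul_mem (inv_mem ht) hs
  exact (inv_mul_eq_one.1 (dD_inf_T h ha (mem_dD_iff.2 ⟨le_nT h2, h1⟩) h2)).symm

theorem D_semireg (h : Hyp T) {a b : G} (ha : a ∉ nT T) (hb : b ∉ nT T) (hab : a⁻¹ * b ∉ nT T)
    {d e : G} (hd : d ∈ dD T a) (he : e ∈ dD T a)
    (hde : d • (QuotientGroup.mk b : G ⧸ nT T) = e • QuotientGroup.mk b) : d = e := by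
  have h1 : (e⁻¹ * d) • (QuotientGroup.mk b : G ⧸ nT T) = QuotientGroup.mk b := by
    rw [mul_smul, hde, inv_smul_smul]
  have h2 : e⁻¹ * d ∈ dD T a := mul_mem (inv_mem he) hd
  exact (inv_mul_eq_one.1 (three_fixed h ha hb hab h2 (mem_dD_iff.2 ⟨h2.1, h1⟩))).symm

/-- There are exactly `#T` cosets outside `N`. -/
theorem card_outside (h : Hyp T) :
    Nat.card {x : G ⧸ nT T // x ≠ QuotientGroup.mk 1} = Nat.card T := by
  classical
  let X := {x : G ⧸ nT T // x ≠ QuotientGroup.mk 1}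
  have hout : ∀ x : X, x.1.out ∉ nT T := fun x hx => x.2 (by
    rw [← QuotientGroup.out_eq' x.1]; exact mk_eq_one_iff'.2 hx)
  haveI : Fintype X := Fintype.ofFinite _
  refine le_antisymm ?_ ?_
  · let f : (Σ x : X, {d : dD T x.1.out // d ≠ 1}) → {g : nT T // (g : G) ∉ (T : Subgroup G)} :=
      fun p => ⟨⟨p.2.1.1, p.2.1.2.1⟩, fun hT =>
        p.2.2 (Subtype.ext (dD_inf_T h (hout p.1) p.2.1.2 hT))⟩
    have hf : Function.Injective f := by
      rintro ⟨x, ⟨d, hd⟩, hd1⟩ ⟨y, ⟨e, he⟩, he1⟩ hpq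
      have hde : d = e := congrArg (fun z : {g : nT T // (g : G) ∉ (T : Subgroup G)} => (z.1 : G)) hpq
      subst hde
      have hxy : x = y := by
        by_contra hne
        refine hd1 (Subtype.ext (three_fixed h (hout x) (hout y) (fun hm => hne ?_) hd he))
        exact Subtype.ext (by
          rw [← QuotientGroup.out_eq' x.1, ← QuotientGroup.out_eq' y.1]; exact QuotientGroup.eq.2 hm)
      subst hxy
      rfl
    have h1 := Nat.card_le_card_of_injective f hf
    rw [Nat.card_sigma] at h1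
    have h2 : ∀ x : X, Nat.card {d : dD T x.1.out // d ≠ 1} = Nat.card T - 2 := by
      intro x
      haveI : Fintype (dD T x.1.out) := Fintype.ofFinite _
      have := card_dD h (hout x)
      rw [Nat.card_eq_fintype_card] at this
      rw [Nat.card_eq_fintype_card, Fintype.card_subtype_compl, Fintype.card_subtype_eq, this]
      omega
    rw [Finset.sum_congr rfl (fun x _ => h2 x), Finset.sum_const, smul_eq_mul, Finset.card_univ,
      ← Nat.card_eq_fintype_card] at h1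
    have h3 : Nat.card {g : nT T // (g : G) ∉ (T : Subgroup G)}
        = Nat.card T * (Nat.card T - 2) := by
      obtain ⟨a, ha⟩ := exists_not_mem h
      haveI : Fintype (nT T) := Fintype.ofFinite _
      rw [Nat.card_eq_fintype_card, Fintype.card_subtype_compl, ← Nat.card_eq_fintype_card,
        ← Nat.card_eq_fintype_card, card_nT h ha]
      have : Nat.card {g : nT T // (g : G) ∈ (T : Subgroup G)} = Nat.card T :=
        Nat.card_congr (Subgroup.subgroupOfEquivOfLe (le_nT (T := T))).toEquiv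
      rw [this]
      have h4 := four_le_card h
      obtain ⟨k, hk⟩ : ∃ k, Nat.card T = k + 2 := ⟨Nat.card T - 2, by omega⟩
      rw [hk]; simp only [Nat.add_sub_cancel, Nat.add_succ_sub_one]
      rw [Nat.mul_add, Nat.mul_one]; omega
    rw [h3] at h1
    exact Nat.le_of_mul_le_mul_right h1 (by have := four_le_card h; omega)
  · obtain ⟨a, ha⟩ := exists_not_mem h
    refine Nat.card_le_card_of_injective (fun t : (T : Subgroup G) =>
      (⟨(t : G) • QuotientGroup.mk a, fun he => ?_⟩ : X)) ?_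
    · refine ha (mk_eq_one_iff'.1 ?_)
      have h1 := congrArg (fun z => (t : G)⁻¹ • z) he
      simp only [inv_smul_smul] at h1
      rw [h1, mem_nT_iff_fix.1 (inv_mem (le_nT t.2))]
    · intro s t hst
      exact Subtype.ext (T_semireg h s.2 t.2 ha (congrArg Subtype.val hst))

/-- `T` is regular on the cosets outside `N`. -/
theorem T_regular (h : Hyp T) {x y : G ⧸ nT T} (hx : x ≠ QuotientGroup.mk 1)
    (hy : y ≠ QuotientGroup.mk 1) : ∃! t : G, t ∈ T ∧ t • x = y := by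
  induction x using QuotientGroup.induction_on with | _ a => ?_
  have ha : a ∉ nT T := fun hm => hx (mk_eq_one_iff'.2 hm)
  let f : ↥(T : Subgroup G) → {x : G ⧸ nT T // x ≠ QuotientGroup.mk 1} := fun t =>
    ⟨(t : G) • QuotientGroup.mk a, fun he => by
      refine ha (mk_eq_one_iff'.1 ?_)
      have h1 := congrArg (fun z => (t : G)⁻¹ • z) he
      simp only [inv_smul_smul] at h1
      rw [h1, mem_nT_iff_fix.1 (inv_mem (le_nT t.2))]⟩
  have hinj : Function.Injective f := fun s t hst =>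
    Subtype.ext (T_semireg h s.2 t.2 ha (congrArg Subtype.val hst))
  have hbij := hinj.bijective_of_nat_card_le (le_of_eq (card_outside h))
  obtain ⟨t, ht⟩ := hbij.2 ⟨y, hy⟩
  refine ⟨t, ⟨t.2, congrArg Subtype.val ht⟩, ?_⟩
  rintro s ⟨hs, hsy⟩
  exact T_semireg h hs t.2 ha (hsy.trans (congrArg Subtype.val ht).symm)

/-- `D` is transitive on the cosets other than its two fixed ones. -/
theorem D_transitive (h : Hyp T) {a : G} (ha : a ∉ nT T) {x y : G ⧸ nT T}
    (hx1 : x ≠ QuotientGroup.mk 1) (hxa : x ≠ QuotientGroup.mk a)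
    (hy1 : y ≠ QuotientGroup.mk 1) (hya : y ≠ QuotientGroup.mk a) :
    ∃ d ∈ dD T a, d • x = y := by
  classical
  induction x using QuotientGroup.induction_on with | _ b => ?_
  have hb : b ∉ nT T := fun hm => hx1 (mk_eq_one_iff'.2 hm)
  have hab : a⁻¹ * b ∉ nT T := fun hm => hxa (QuotientGroup.eq.2 hm).symm
  have ha1 : (QuotientGroup.mk a : G ⧸ nT T) ≠ QuotientGroup.mk 1 :=
    fun e => ha (mk_eq_one_iff'.1 e)
  let X := {x : G ⧸ nT T // x ≠ QuotientGroup.mk 1}
  let Y := {x : X // x ≠ ⟨QuotientGroup.mk a, ha1⟩}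
  let f : dD T a → Y := fun d => ⟨⟨(d : G) • QuotientGroup.mk b, fun he => hx1 (by
      have h1 := congrArg (fun z => (d : G)⁻¹ • z) he
      simp only [inv_smul_smul] at h1
      rw [h1, mem_nT_iff_fix.1 (inv_mem d.2.1)])⟩, fun he => hxa (by
      have h1 := congrArg (fun z : X => (d : G)⁻¹ • z.1) he
      simp only [inv_smul_smul] at h1
      rw [h1, (mem_dD_iff.1 (inv_mem d.2)).2])⟩
  have hinj : Function.Injective f := fun d e hde =>
    Subtype.ext (D_semireg h ha hb hab d.2 e.2 (congrArg (fun z : Y => z.1.1) hde))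
  haveI : Fintype X := Fintype.ofFinite _
  have hcard : Nat.card Y ≤ Nat.card (dD T a) := by
    rw [Nat.card_eq_fintype_card, Fintype.card_subtype_compl, Fintype.card_subtype_eq,
      ← Nat.card_eq_fintype_card, card_outside h, card_dD h ha]
  obtain ⟨d, hd⟩ := (hinj.bijective_of_nat_card_le hcard).2 ⟨⟨y, hy1⟩, fun e => hya (congrArg Subtype.val e)⟩
  exact ⟨d, d.2, congrArg (fun z : Y => z.1.1) hd⟩

theorem triple_transitive_base (h : Hyp T) {a : G} (ha : a ∉ nT T) {b : G ⧸ nT T}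
    (hb1 : b ≠ QuotientGroup.mk 1) (hba : b ≠ QuotientGroup.mk a) {x₁ x₂ x₃ : G ⧸ nT T}
    (h12 : x₁ ≠ x₂) (h13 : x₁ ≠ x₃) (h23 : x₂ ≠ x₃) :
    ∃ g : G, g • (QuotientGroup.mk 1 : G ⧸ nT T) = x₁ ∧ g • QuotientGroup.mk a = x₂ ∧ g • b = x₃ := by
  induction x₁ using QuotientGroup.induction_on with | _ g => ?_
  have hg : g • (QuotientGroup.mk 1 : G ⧸ nT T) = QuotientGroup.mk g := by
    rw [smul_mk_iff]; simp
  have h2 : g⁻¹ • x₂ ≠ QuotientGroup.mk 1 := fun e => h12 (by rw [← hg, ← e, smul_inv_smul])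
  obtain ⟨t, ⟨ht, hta⟩, -⟩ := T_regular h (x := QuotientGroup.mk a)
    (fun e => ha (mk_eq_one_iff'.1 e)) h2
  have ht1 : t • (QuotientGroup.mk 1 : G ⧸ nT T) = QuotientGroup.mk 1 :=
    mem_nT_iff_fix.1 (le_nT ht)
  have e1 : (g * t) • (QuotientGroup.mk 1 : G ⧸ nT T) = QuotientGroup.mk g := by
    rw [mul_smul, ht1, hg]
  have e2 : (g * t) • (QuotientGroup.mk a : G ⧸ nT T) = x₂ := by
    rw [mul_smul, hta, smul_inv_smul]
  have hy1 : (g * t)⁻¹ • x₃ ≠ QuotientGroup.mk 1 := fun e => h13 (by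
    rw [← e1, ← e, smul_inv_smul])
  have hya : (g * t)⁻¹ • x₃ ≠ QuotientGroup.mk a := fun e => h23 (by
    rw [← e2, ← e, smul_inv_smul])
  obtain ⟨d, hd, hdb⟩ := D_transitive h ha hb1 hba hy1 hya
  refine ⟨g * t * d, ?_, ?_, ?_⟩
  · rw [mul_smul, mem_nT_iff_fix.1 hd.1, e1]
  · rw [mul_smul, (mem_dD_iff.1 hd).2, e2]
  · rw [mul_smul, hdb, smul_inv_smul]

theorem triple_transitive (h : Hyp T) {x₁ x₂ x₃ y₁ y₂ y₃ : G ⧸ nT T}
    (h12 : x₁ ≠ x₂) (h13 : x₁ ≠ x₃) (h23 : x₂ ≠ x₃)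
    (k12 : y₁ ≠ y₂) (k13 : y₁ ≠ y₃) (k23 : y₂ ≠ y₃) :
    ∃ g : G, g • x₁ = y₁ ∧ g • x₂ = y₂ ∧ g • x₃ = y₃ := by
  induction x₁ using QuotientGroup.induction_on with | _ g => ?_
  have hg : g • (QuotientGroup.mk 1 : G ⧸ nT T) = QuotientGroup.mk g := by
    rw [smul_mk_iff]; simp
  have hq : ∀ x : G ⧸ nT T, QuotientGroup.mk g ≠ x → g⁻¹ • x ≠ QuotientGroup.mk 1 := fun x hx e =>
    hx (by rw [← hg, ← e, smul_inv_smul])
  obtain ⟨a, ha⟩ := QuotientGroup.mk_surjective (g⁻¹ • x₂)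
  have haN : a ∉ nT T := fun hm => hq x₂ h12 (by rw [← ha]; exact mk_eq_one_iff'.2 hm)
  obtain ⟨g2, e1, e2, e3⟩ := triple_transitive_base h haN (hq x₃ h13)
    (fun e => h23 (smul_left_cancel g⁻¹ (ha.symm.trans e.symm))) k12 k13 k23
  refine ⟨g2 * g⁻¹, ?_, ?_, ?_⟩
  · rw [← hg, mul_smul, inv_smul_smul, e1]
  · rw [mul_smul, ← ha, e2]
  · rw [mul_smul, e3]

theorem three_point_stabilizer (h : Hyp T) (g : G) {x₁ x₂ x₃ : G ⧸ nT T}
    (h12 : x₁ ≠ x₂) (h13 : x₁ ≠ x₃) (h23 : x₂ ≠ x₃)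
    (f1 : g • x₁ = x₁) (f2 : g • x₂ = x₂) (f3 : g • x₃ = x₃) : g = 1 := by
  obtain ⟨a, ha⟩ := exists_not_mem h
  have hb : ∃ b : G, b ∉ nT T ∧ a⁻¹ * b ∉ nT T := by
    obtain ⟨z, hzT, hz, -⟩ := exists_central_involution h
    refine ⟨z * a, fun hm => ha ?_, fun hm => involution_ne_one hz ?_⟩
    · simpa using mul_mem (inv_mem (le_nT hzT)) hm
    · refine dD_inf_T h ha ⟨le_nT hzT, mem_map_conj_iff.2 ?_⟩ hzT
      simpa [mul_assoc] using hm
  obtain ⟨b, hb, hab⟩ := hb
  obtain ⟨k, e1, e2, e3⟩ := triple_transitive_base h ha (b := QuotientGroup.mk b)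
    (fun e => hb (mk_eq_one_iff'.1 e)) (fun e => hab (QuotientGroup.eq.1 e.symm)) h12 h13 h23
  have hf : ∀ (p : G ⧸ nT T) (x : G ⧸ nT T), k • p = x → g • x = x → (k⁻¹ * g * k) • p = p := by
    intro p x hp hx
    rw [mul_smul, mul_smul, hp, hx, ← hp, inv_smul_smul]
  have hN := mem_nT_iff_fix.2 (hf _ _ e1 f1)
  have := three_fixed h ha hb hab (mem_dD_iff.2 ⟨hN, hf _ _ e2 f2⟩) (mem_dD_iff.2 ⟨hN, hf _ _ e3 f3⟩)
  have h' := congrArg (fun z => k * z * k⁻¹) this
  simpa [mul_assoc] using h'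

theorem normalizer_dD (h : Hyp T) {u : G} (hu : orderOf u = 2) (huN : u ∉ nT T) :
    Subgroup.normalizer (dD T u : Set G) = dD T u ⊔ Subgroup.zpowers u := by
  have hn : ∀ d ∈ dD T u, u * d * u⁻¹ ∈ dD T u := fun d hd => by
    rw [u_inverts h hu huN d hd]; exact inv_mem hd
  have huNm : u ∈ Subgroup.normalizer (dD T u : Set G) := by
    rw [Subgroup.mem_normalizer_iff]
    intro d
    refine ⟨hn d, fun hd => ?_⟩
    have h1 := hn _ hd
    rw [involution_inv hu] at h1
    simpa [mul_assoc, involution_mul_self hu, ← mul_assoc u u] using h1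
  refine le_antisymm (fun g hg => ?_) (sup_le Subgroup.le_normalizer (Subgroup.zpowers_le.2 huNm))
  have key : ∀ x ∈ Subgroup.normalizer (dD T u : Set G), x ∈ nT T → x ∈ dD T u := fun x hx hxN =>
    mem_dD_of_normalizes h huN hxN fun d hd => (Subgroup.mem_normalizer_iff.1 hx d).1 hd
  have hfix : dD T u ≤ (nT T).map (MulAut.conj g).toMonoidHom := by
    intro d hd
    rw [mem_map_conj_iff]
    exact ((Subgroup.mem_normalizer_iff''.1 hg d).1 hd).1
  rcases fixed_two h hu huN hfix with h1 | h1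
  · exact Subgroup.mem_sup_left (key g hg h1)
  · have h2 := key _ (mul_mem (inv_mem huNm) hg) h1
    have : g = u * (u⁻¹ * g) := by group
    rw [this]
    exact mul_mem (Subgroup.mem_sup_right (Subgroup.mem_zpowers u)) (Subgroup.mem_sup_left h2)

end Cfsg.Agent.TwoFusion.BSW
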