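import Mathlib
import Cfsg.Agent.TwoFusion.BSW
import Cfsg.Agent.SmallGroups.PSLRecognition
import Cfsg.Agent.S0727

/-!
Recognition of `PSL₂(2^f)` from elementary abelian involution centralisers.
-/

set_option autoImplicit false

namespace Cfsg.Agent.TwoFusion.BSWRec

open Cfsg.Agent.TwoFusion.BSW

universe u
variable {G : Type u} [Group G] [Finite G]

theorem exists_psl_equiv_pgl {K : Type} [Field K] [Fintype K] (hKe : Even (Fintype.card K)) :
    Nonempty (Matrix.ProjectiveSpecialLinearGroup (Fin 2) K ≃* Matrix.ProjGenLinGroup (Fin 2) K) := by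
  have hcardeq : Nat.card (Matrix.ProjectiveSpecialLinearGroup (Fin 2) K) =
      Nat.card (Matrix.ProjGenLinGroup (Fin 2) K) := by
    rw [Linear.card_PGL_eq_card_SL]
    have h1 := Subgroup.card_eq_card_quotient_mul_card_subgroup
      (Subgroup.center (Matrix.SpecialLinearGroup (Fin 2) K))
    rw [Linear.card_center_SL, Fintype.card_fin, Linear.gcd_two_of_even hKe, mul_one] at h1
    exact h1.symm
  have : Finite (Matrix.ProjGenLinGroup (Fin 2) K) := Finite.of_surjective
    (Matrix.ProjGenLinGroup.mk (n := Fin 2) (R := K))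
    (fun x => Matrix.ProjGenLinGroup.induction_on x (fun g => ⟨g, rfl⟩))
  exact ⟨MulEquiv.ofBijective Matrix.ProjectiveSpecialLinearGroup.toPGL
    ((Nat.bijective_iff_injective_and_card _).mpr
      ⟨Matrix.ProjectiveSpecialLinearGroup.toPGL_injective, hcardeq⟩)⟩

theorem is_psl_two {T : Sylow 2 G} (h : Hyp T) :
    ∃ (F : Type) (_ : Field F) (_ : Fintype F), Fintype.card F = Nat.card T ∧
      Nonempty (G ≃* Matrix.ProjectiveSpecialLinearGroup (Fin 2) F) := by
  classical
  let α := G ⧸ nT T
  haveI : Fintype α := Fintype.ofFinite α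
  obtain ⟨f, hf⟩ := IsPGroup.iff_card.1 T.isPGroup'
  have h4 := four_le_card h
  have hf1 : 1 ≤ f := by
    by_contra hcon
    rw [show f = 0 by omega, pow_zero] at hf
    omega
  have hcard : Fintype.card α = 2 ^ f + 1 := by
    have h1 : Nat.card {x : α // x ≠ (QuotientGroup.mk 1 : α)} = Fintype.card α - 1 := by
      rw [Nat.card_eq_fintype_card, Fintype.card_subtype_compl, Fintype.card_subtype_eq]
    have h2 : Nat.card {x : α // x ≠ (QuotientGroup.mk 1 : α)} = Nat.card T := card_outside h
    have : 0 < Fintype.card α := Fintype.card_pos_iff.2 ⟨QuotientGroup.mk 1⟩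
    omega
  let φ : G →* Equiv.Perm α := MulAction.toPermHom G α
  have hinj : Function.Injective φ := by
    rw [injective_iff_map_eq_one]
    intro g hg
    have hx : ∀ x : α, g • x = x := fun x => Equiv.congr_fun hg x
    obtain ⟨x⟩ : Nonempty (Fin 3 ↪ α) := Function.Embedding.nonempty_of_card_le (by
      rw [Fintype.card_fin, hcard]; rw [hf] at h4; omega)
    exact three_point_stabilizer h g (x.injective.ne (show (0 : Fin 3) ≠ 1 by decide))
      (x.injective.ne (show (0 : Fin 3) ≠ 2 by decide)) (x.injective.ne (show (1 : Fin 3) ≠ 2 by decide))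
      (hx _) (hx _) (hx _)
  have h3 : MulAction.IsMultiplyPretransitive φ.range α 3 := ⟨fun x y => by
    obtain ⟨g, e0, e1, e2⟩ := triple_transitive h (x₁ := x 0) (x₂ := x 1) (x₃ := x 2)
      (y₁ := y 0) (y₂ := y 1) (y₃ := y 2)
      (x.injective.ne (by decide)) (x.injective.ne (by decide)) (x.injective.ne (by decide))
      (y.injective.ne (by decide)) (y.injective.ne (by decide)) (y.injective.ne (by decide))
    refine ⟨⟨φ g, g, rfl⟩, Function.Embedding.ext fun i => ?_⟩
    fin_cases i
    exacts [e0, e1, e2]⟩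
  have hsharp : ∀ x : Fin 3 ↪ α, MulAction.stabilizer φ.range x = ⊥ := fun x => by
    rw [eq_bot_iff]
    rintro ⟨_, g, rfl⟩ hg
    have hx : ∀ i, g • x i = x i := fun i => congrArg (fun e : Fin 3 ↪ α => e i) hg
    have := three_point_stabilizer h g (x.injective.ne (show (0 : Fin 3) ≠ 1 by decide))
      (x.injective.ne (show (0 : Fin 3) ≠ 2 by decide)) (x.injective.ne (show (1 : Fin 3) ≠ 2 by decide))
      (hx 0) (hx 1) (hx 2)
    rw [Subgroup.mem_bot]
    exact Subtype.ext (by simp [this])
  obtain ⟨F, iF, iFt, hF, ⟨e⟩⟩ := Cfsg.Agent.S0727.result hf1 hcard φ.range h3 hsharp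
  obtain ⟨e1⟩ := exists_psl_equiv_pgl (K := F) (by
    rw [hF]; exact (even_two).pow_of_ne_zero (by omega))
  exact ⟨F, iF, iFt, hF.trans hf.symm, ⟨((MonoidHom.ofInjective hinj).trans e).trans e1.symm⟩⟩

end Cfsg.Agent.TwoFusion.BSWRec
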