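import Cfsg.Agent.TwoFusion.Dihedral
import Cfsg.Agent.TwoFusion.DihedralFour
import Cfsg.Prelude.Def_TwoFusion

/-!
The small and the large dihedral case; consequences for involutions.
-/

set_option autoImplicit false

namespace Cfsg.Agent.TwoFusion

open Cfsg.Agent.TwoGroups

variable {G : Type*} [Group G] [Finite G] {S : Sylow 2 G} {m : ℕ}

/-- A dihedral Sylow 2-subgroup is a four-group, or has maximal class coordinates. -/
theorem dihedral_cases (hm : 2 ≤ m) (e : (S : Subgroup G) ≃* DihedralGroup m) :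
    IsFour (S : Subgroup G) ∨
      ((∃ (n : ℕ) (a b : (S : Subgroup G)), DData n a b) ∧ 4 < Nat.card (S : Subgroup G)) := by
  obtain ⟨k, hk⟩ := IsPGroup.iff_card.1 S.isPGroup'
  have hc : Nat.card (S : Subgroup G) = 2 * m := by
    rw [Nat.card_congr e.toEquiv, DihedralGroup.nat_card]
  rcases k with _ | k
  · rw [hc] at hk; simp at hk
  have hm2 : m = 2 ^ k := by rw [hc, pow_succ'] at hk; omega
  subst hm2
  rcases k with _ | _ | k
  · omega
  · refine Or.inl ⟨by rw [hc]; norm_num, fun x hx => ?_⟩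
    have key : ∀ u : DihedralGroup (2 ^ (0 + 1)), u * u = 1 := by decide
    exact congrArg Subtype.val (e.injective (a₁ := ⟨x, hx⟩ * ⟨x, hx⟩) (a₂ := 1)
      (by rw [map_mul, key, map_one]))
  · refine Or.inr ⟨⟨_, DData.of_dihedral (by omega) e⟩, ?_⟩
    rw [hc]
    have : 4 ≤ 2 ^ (k + 1 + 1) := Nat.pow_le_pow_right (show 2 > 0 by norm_num) (show 2 ≤ k + 1 + 1 by omega)
    omega

theorem exists_four_le (hm : 2 ≤ m) (e : (S : Subgroup G) ≃* DihedralGroup m) :
    ∃ X : Subgroup G, X ≤ (S : Subgroup G) ∧ IsFour X := by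
  rcases dihedral_cases hm e with h4 | ⟨⟨n, a, b, h⟩, -⟩
  · exact ⟨_, le_rfl, h4⟩
  · obtain ⟨X, hXS, hX, -⟩ := MC.exists_fourG h.toMaxClassData h.notMem h.b_sq
    exact ⟨X, hXS, hX⟩

/-- A dihedral group is generated by involutions. -/
theorem le_of_involutions_mem (e : (S : Subgroup G) ≃* DihedralGroup m) {H : Subgroup G}
    (hH : ∀ x ∈ (S : Subgroup G), x * x = 1 → x ∈ H) : (S : Subgroup G) ≤ H := by
  intro x hx
  have hsr : ∀ i, ((e.symm (.sr i) : (S : Subgroup G)) : G) ∈ H := fun i => by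
    refine hH _ (e.symm (.sr i)).2 ?_
    rw [← Subgroup.coe_mul, ← map_mul, DihedralGroup.sr_mul_self, map_one, Subgroup.coe_one]
  have hx' : x = ((e.symm (e ⟨x, hx⟩) : (S : Subgroup G)) : G) := by rw [e.symm_apply_apply]
  rw [hx']
  cases e ⟨x, hx⟩ with
  | r i =>
    rw [show DihedralGroup.r i = DihedralGroup.sr 0 * DihedralGroup.sr i by simp, map_mul,
      Subgroup.coe_mul]
    exact mul_mem (hsr 0) (hsr i)
  | sr i => exact hsr i

theorem not_index_two_of_all_conj (e : (S : Subgroup G) ≃* DihedralGroup m)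
    (hA : ∀ x y : G, orderOf x = 2 → orderOf y = 2 → IsConj x y) {X : Subgroup G} (hX : IsFour X)
    {H : Subgroup G} (hH : H.index = 2) : False := by
  haveI : Fact (Nat.Prime 2) := ⟨Nat.prime_two⟩
  haveI := Subgroup.normal_of_index_eq_two hH
  obtain ⟨w, hw, hwH⟩ : ∃ w ∈ X, w ≠ 1 ∧ w ∈ H := by
    by_contra hc
    push Not at hc
    have h1 : ∀ u ∈ X, ∀ v ∈ X, u ≠ 1 → v ≠ 1 → u = v := fun u hu v hv hu1 hv1 => by
      by_contra huv
      refine hc (u * v) (mul_mem hu hv) (fun e' => huv ?_)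
        ((Subgroup.mul_mem_iff_of_index_two hH).2 (iff_of_false (hc u hu hu1) (hc v hv hv1)))
      rw [eq_inv_of_mul_eq_one_left e', inv_eq_of_mul_eq_one_left (hX.2 v hv)]
    classical
    let f : X → Bool := fun x => decide ((x : G) = 1)
    have hf : Function.Injective f := fun u v huv => by
      simp only [f, decide_eq_decide] at huv
      by_cases hu : (u : G) = 1
      · exact Subtype.ext (hu.trans (huv.1 hu).symm)
      · exact Subtype.ext (h1 u u.2 v v.2 hu fun hv => hu (huv.2 hv))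
    have h4 := Nat.card_le_card_of_injective f hf
    rw [hX.1] at h4
    simp at h4
  have hw2 : orderOf w = 2 := orderOf_eq_prime (by rw [pow_two]; exact hX.2 w hw) hwH.1
  refine not_index_two_of_sylow_le (S := S) (le_of_involutions_mem e fun x _ hx2 => ?_) hH
  by_cases hx1 : x = 1
  · rw [hx1]; exact H.one_mem
  obtain ⟨g, hg⟩ := isConj_iff.1 (hA w x hw2 (orderOf_eq_prime (by rw [pow_two]; exact hx2) hx1))
  rw [← hg]
  exact (Subgroup.normal_of_index_eq_two hH).conj_mem w hwH.2 g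

theorem simple_of_all_conj (hm : 2 ≤ m) (e : (S : Subgroup G) ≃* DihedralGroup m)
    (hA : ∀ x y : G, orderOf x = 2 → orderOf y = 2 → IsConj x y) :
    (∀ H : Subgroup G, H.index ≠ 2) ∧ ∀ z : G, ¬ Cfsg.IsIsolatedInvolution z := by
  haveI : Fact (Nat.Prime 2) := ⟨Nat.prime_two⟩
  obtain ⟨X, hXS, hX⟩ := exists_four_le hm e
  refine ⟨fun H hH => not_index_two_of_all_conj e hA hX hH, ?_⟩
  intro z hz
  obtain ⟨x, hxX, hx⟩ : ∃ x ∈ X, x ≠ 1 := by
    by_contra hc
    push Not at hc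
    have : X = ⊥ := (Subgroup.eq_bot_iff_forall X).2 hc
    have h1 := hX.1
    rw [this, Subgroup.card_bot] at h1
    omega
  obtain ⟨y, hyX, hy, hxy⟩ : ∃ y ∈ X, y ≠ 1 ∧ y ≠ x := by
    by_contra hc
    push Not at hc
    have : X ≤ Subgroup.zpowers x := fun y hy => by
      by_cases h1 : y = 1
      · rw [h1]; exact Subgroup.one_mem _
      · rw [hc y hy h1]; exact Subgroup.mem_zpowers x
    have h1 := Subgroup.card_le_of_le this
    rw [hX.1, Nat.card_zpowers, orderOf_eq_prime (by rw [pow_two]; exact hX.2 x hxX) hx] at h1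
    omega
  have ox : orderOf x = 2 := orderOf_eq_prime (by rw [pow_two]; exact hX.2 x hxX) hx
  have oy : orderOf y = 2 := orderOf_eq_prime (by rw [pow_two]; exact hX.2 y hyX) hy
  obtain ⟨g, hg⟩ := isConj_iff.1 (hA z x hz.1 ox)
  obtain ⟨k, hk⟩ := isConj_iff.1 (hA x y ox oy)
  have e1 : g⁻¹ * y * g = (g⁻¹ * k * g) * z * (g⁻¹ * k * g)⁻¹ := by rw [← hk, ← hg]; group
  have hcomm : Commute z ((g⁻¹ * k * g) * z * (g⁻¹ * k * g)⁻¹) := by
    rw [← e1, show z = g⁻¹ * x * g by rw [← hg]; group]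
    show g⁻¹ * x * g * (g⁻¹ * y * g) = g⁻¹ * y * g * (g⁻¹ * x * g)
    calc g⁻¹ * x * g * (g⁻¹ * y * g) = g⁻¹ * (x * y) * g := by group
      _ = g⁻¹ * (y * x) * g := by rw [hX.comm hxX hyX]
      _ = g⁻¹ * y * g * (g⁻¹ * x * g) := by group
  have h2 := hz.2 _ hcomm
  rw [← e1] at h2
  exact hxy (by rw [← hg, ← h2]; group)

end Cfsg.Agent.TwoFusion
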